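import Groth.Prelude.Def_QuadSing
import Mathlib.Data.Matrix.Mul

/-!
# Tables of quadratic forms: the polar form and the standard table

* `quadEval_add`: `Q(v + w) = Q(v) + Q(w) + Σ w_i (P v)_i` for the polar matrix `P`.
* `quadOrd_iff`: `QuadOrd` without matrices.
* `stdTab`: the table of the standard form `x_0 x_1 + x_2 x_3 + ⋯ (+ x_{N-1}²)`, and `quadOrd_stdTab`.
-/

set_option autoImplicit false
universe u v

namespace Groth.Agent.Vancyc.H689.QuadTab

section General

variable {R : Type u} [CommRing R] {N : ℕ}

theorem polarMatrix_apply (a : Fin N → Fin N → R) (i j : Fin N) :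
    VanCyc.polarMatrix a i j = (if i ≤ j then a i j else 0) + (if j ≤ i then a j i else 0) := by
  unfold VanCyc.polarMatrix
  rcases lt_trichotomy i j with h | h | h
  · simp [h.ne, h, h.le, not_le.mpr h]
  · subst h; simp [two_mul]
  · simp [h.ne', h.le, not_le.mpr h, not_lt.mpr h.le]

theorem quadEval_add (a : Fin N → Fin N → R) (v w : Fin N → R) :
    VanCyc.quadEval a (v + w) = VanCyc.quadEval a v + VanCyc.quadEval a w +
      ∑ i, w i * (VanCyc.polarMatrix a).mulVec v i := by
  have h1 : ∑ i, w i * (VanCyc.polarMatrix a).mulVec v i =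
      (∑ i, ∑ j, if i ≤ j then a i j * w i * v j else 0) +
      (∑ i, ∑ j, if i ≤ j then a i j * v i * w j else 0) := by
    have h2 : (∑ i, ∑ j, if i ≤ j then a i j * v i * w j else 0) =
        ∑ i, ∑ j, if j ≤ i then a j i * v j * w i else 0 := Finset.sum_comm
    rw [h2, ← Finset.sum_add_distrib]
    refine Finset.sum_congr rfl fun i _ => ?_
    rw [← Finset.sum_add_distrib, Matrix.mulVec, dotProduct, Finset.mul_sum]
    refine Finset.sum_congr rfl fun j _ => ?_
    rw [polarMatrix_apply]
    split_ifs <;> ring
  rw [h1]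
  unfold VanCyc.quadEval
  rw [← Finset.sum_add_distrib, ← Finset.sum_add_distrib, ← Finset.sum_add_distrib]
  refine Finset.sum_congr rfl fun i _ => ?_
  rw [← Finset.sum_add_distrib, ← Finset.sum_add_distrib, ← Finset.sum_add_distrib]
  refine Finset.sum_congr rfl fun j _ => ?_
  split_ifs
  · simp only [Pi.add_apply]; ring
  · simp

theorem quadEval_smul (a : Fin N → Fin N → R) (c : R) (v : Fin N → R) :
    VanCyc.quadEval a (c • v) = c * c * VanCyc.quadEval a v := by
  unfold VanCyc.quadEval
  rw [Finset.mul_sum]
  refine Finset.sum_congr rfl fun i _ => ?_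
  rw [Finset.mul_sum]
  refine Finset.sum_congr rfl fun j _ => ?_
  split_ifs
  · simp only [Pi.smul_apply, smul_eq_mul]; ring
  · simp

/-- Ring homomorphisms commute with evaluation of a table. -/
theorem map_quadEval {S : Type v} [CommRing S] (φ : R →+* S) (a : Fin N → Fin N → R)
    (v : Fin N → R) : φ (VanCyc.quadEval a v) =
      ∑ i : Fin N, ∑ j : Fin N, if i ≤ j then φ (a i j) * φ (v i) * φ (v j) else 0 := by
  unfold VanCyc.quadEval
  rw [map_sum]
  refine Finset.sum_congr rfl fun i _ => ?_
  rw [map_sum]
  refine Finset.sum_congr rfl fun j _ => ?_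
  split_ifs <;> simp

/-- `QuadOrd` without matrices. -/
theorem quadOrd_iff {k : Type u} [Field k] (a : Fin N → Fin N → k) :
    VanCyc.QuadOrd a ↔ ∀ v : Fin N → k, VanCyc.quadEval a v = 0 →
      (∀ w, VanCyc.quadEval a (v + w) = VanCyc.quadEval a v + VanCyc.quadEval a w) → v = 0 := by
  unfold VanCyc.QuadOrd
  refine forall_congr' fun v => imp_congr_right fun _ => ?_
  refine imp_congr_left ?_
  constructor
  · intro h w
    rw [quadEval_add, h]
    simp
  · intro h
    ext i
    have := h (Pi.single i 1)
    rw [quadEval_add] at this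
    simpa [Pi.single_apply] using this

end General

/-- The table of the standard form `x_0 x_1 + x_2 x_3 + ⋯ (+ x_{N-1}²)`. -/
def stdTab (A : Type u) [CommRing A] : (N : ℕ) → (Fin N → Fin N → A)
  | 0 => fun i _ => i.elim0
  | 1 => fun _ _ => 1
  | (N + 2) => Fin.cons (Fin.cons 0 (Fin.cons 1 (fun _ => 0)))
      (Fin.cons (fun _ => 0) (fun i => Fin.cons 0 (Fin.cons 0 (stdTab A N i))))

section Std

variable {R : Type u} [CommRing R]

theorem quadEval_stdTab_add_two (N : ℕ) (v : Fin (N + 2) → R) :
    VanCyc.quadEval (stdTab R (N + 2)) v =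
      v 0 * v 1 + VanCyc.quadEval (stdTab R N) (fun i => v i.succ.succ) := by
  unfold VanCyc.quadEval
  rw [Fin.sum_univ_succ, Fin.sum_univ_succ (n := N)]
  simp only [Fin.sum_univ_succ (n := N + 1), Fin.sum_univ_succ (n := N)]
  simp [stdTab]

theorem quadEval_stdTab_zero (v : Fin 0 → R) : VanCyc.quadEval (stdTab R 0) v = 0 := by
  simp [VanCyc.quadEval]

theorem quadEval_stdTab_one (v : Fin 1 → R) : VanCyc.quadEval (stdTab R 1) v = v 0 * v 0 := by
  simp [VanCyc.quadEval, stdTab]

/-- The entries of the standard table come from `0` and `1`. -/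
theorem map_stdTab {S : Type v} [CommRing S] (φ : R →+* S) : ∀ (N : ℕ) (i j : Fin N),
    φ (stdTab R N i j) = stdTab S N i j
  | 0, i, _ => i.elim0
  | 1, _, _ => by simp [stdTab]
  | (N + 2), i, j => by
    refine Fin.cases ?_ (fun i => ?_) i
    · refine Fin.cases ?_ (fun j => ?_) j
      · simp [stdTab]
      · refine Fin.cases ?_ (fun j => ?_) j <;> simp [stdTab]
    · refine Fin.cases ?_ (fun i => ?_) i
      · simp [stdTab]
      · refine Fin.cases ?_ (fun j => ?_) j
        · simp [stdTab]
        · refine Fin.cases ?_ (fun j => ?_) j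
          · simp [stdTab]
          · simp only [stdTab, Fin.cons_succ]
            exact map_stdTab φ N i j

end Std

/-- The standard form is ordinary over a field. -/
theorem quadOrd_stdTab (k : Type u) [Field k] : ∀ N : ℕ, VanCyc.QuadOrd (stdTab k N)
  | 0 => fun v _ _ => by ext i; exact i.elim0
  | 1 => by
    rw [quadOrd_iff]
    intro v h _
    rw [quadEval_stdTab_one] at h
    ext i
    obtain rfl : i = 0 := Subsingleton.elim _ _
    simpa using h
  | (N + 2) => by
    rw [quadOrd_iff]
    intro v h1 h2
    have ih := (quadOrd_iff _).mp (quadOrd_stdTab k N)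
    have e0 : v 0 = 0 := by
      have := h2 (Fin.cons 0 (Fin.cons 1 (fun _ => 0)))
      simp only [quadEval_stdTab_add_two] at this
      simp [VanCyc.quadEval] at this
      linear_combination this
    have e1 : v 1 = 0 := by
      have := h2 (Fin.cons 1 (fun _ => 0))
      simp only [quadEval_stdTab_add_two] at this
      simp [VanCyc.quadEval] at this
      linear_combination this
    rw [quadEval_stdTab_add_two, e0, zero_mul, zero_add] at h1
    have e2 := ih (fun i => v i.succ.succ) h1 (fun w => by
      have := h2 (Fin.cons 0 (Fin.cons 0 w))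
      simp only [quadEval_stdTab_add_two] at this
      simpa [e0, e1, Pi.add_def] using this)
    ext i
    refine Fin.cases e0 (fun i => ?_) i
    refine Fin.cases e1 (fun i => ?_) i
    exact congrFun e2 i

end Groth.Agent.Vancyc.H689.QuadTab
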