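import Groth.Agent.CurvesB.SeriesEval
import Groth.Agent.UnramA.PowerSeriesComplete
import Mathlib.RingTheory.MvPowerSeries.Inverse
import Mathlib.RingTheory.MvPowerSeries.Trunc
import Mathlib.RingTheory.Nakayama
import Groth.Agent.Vancyc.H689.QuadTab

/-!
# Powers of the maximal ideal of `k[[x_1, …, x_N]]` and coordinate changes

* `mem_pow_iff`: `g ∈ (x)^j` iff the coefficients of degree `< j` vanish.
* `exists_poly`: polynomials are dense.
* `exists_coordEquiv`: generators of the maximal ideal are the images of the variables under an automorphism.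
-/

set_option autoImplicit false
universe u v

namespace Groth.Agent.Vancyc.H689.PSPow

open MvPowerSeries IsLocalRing

variable {k : Type u} [Field k] {N : ℕ}

/-- The ideal of the variables. -/
noncomputable abbrev M (k : Type u) [Field k] (N : ℕ) : Ideal (MvPowerSeries (Fin N) k) :=
  Ideal.span (Set.range X)

theorem mem_pow_iff (j : ℕ) (g : MvPowerSeries (Fin N) k) :
    g ∈ M k N ^ j ↔ ∀ d : Fin N →₀ ℕ, d.degree < j → coeff d g = 0 := by
  have h1 : UnramA.PowerSeriesComplete.M (⊥ : Ideal k) (Fin N) = M k N := by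
    simp [UnramA.PowerSeriesComplete.M]
  rw [← h1, UnramA.PowerSeriesComplete.mem_M_pow_iff]
  constructor
  · intro h d hd
    have h2 := h d
    rwa [← Ideal.zero_eq_bot, zero_pow (by omega), Ideal.zero_eq_bot, Ideal.mem_bot] at h2
  · intro h d
    by_cases hd : d.degree < j
    · rw [h d hd]; exact zero_mem _
    · rw [Nat.sub_eq_zero_of_le (not_lt.mp hd), pow_zero, Ideal.one_eq_top]
      trivial

theorem maximalIdeal_eq : maximalIdeal (MvPowerSeries (Fin N) k) = M k N := by
  ext f
  rw [CurvesB.SeriesEval.mem_span_range_X_iff, mem_maximalIdeal, mem_nonunits_iff,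
    MvPowerSeries.isUnit_iff_constantCoeff, isUnit_iff_ne_zero, not_not]

theorem coe_mem_pow_iff (j : ℕ) (p : MvPolynomial (Fin N) k) :
    (p : MvPowerSeries (Fin N) k) ∈ M k N ^ j ↔ p ∈ MvPolynomial.idealOfVars (Fin N) k ^ j := by
  rw [mem_pow_iff, MvPolynomial.mem_pow_idealOfVars_iff']
  simp [MvPolynomial.coeff_coe]

theorem exists_poly (j : ℕ) (g : MvPowerSeries (Fin N) k) :
    ∃ p : MvPolynomial (Fin N) k, g - (p : MvPowerSeries (Fin N) k) ∈ M k N ^ j := by
  refine ⟨truncTotal j g, (mem_pow_iff _ _).mpr fun d hd => ?_⟩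
  rw [map_sub, MvPolynomial.coeff_coe, coeff_truncTotal _ hd, sub_self]

/-- A surjective endomorphism of a Noetherian ring is injective. -/
theorem injective_of_surjective {A : Type u} [CommRing A] [IsNoetherianRing A] (f : A →+* A)
    (hf : Function.Surjective f) : Function.Injective f := by
  let g : ℕ →o Ideal A := ⟨fun n => RingHom.ker (f ^ n), fun a b hab x hx => by
    obtain ⟨c, rfl⟩ := Nat.exists_eq_add_of_le hab
    rw [RingHom.mem_ker] at hx ⊢
    rw [add_comm, pow_add, RingHom.mul_def, RingHom.comp_apply, hx, map_zero]⟩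
  obtain ⟨n, hn⟩ := (monotone_stabilizes_iff_noetherian (R := A) (M := A)).mpr inferInstance g
  have hsurj : Function.Surjective (f ^ n) := by
    rw [RingHom.coe_pow]
    exact hf.iterate n
  rw [injective_iff_map_eq_zero]
  intro x hx
  obtain ⟨y, rfl⟩ := hsurj x
  have h1 : y ∈ g (n + 1) := by
    change y ∈ RingHom.ker (f ^ (n + 1))
    rw [RingHom.mem_ker, add_comm, pow_add, pow_one, RingHom.mul_def, RingHom.comp_apply]
    exact hx
  rw [← hn (n + 1) (Nat.le_succ n)] at h1
  exact h1

/-- Generators of the maximal ideal are coordinates. -/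
theorem exists_coordEquiv (η : Fin N → MvPowerSeries (Fin N) k)
    (hη : Ideal.span (Set.range η) = M k N) :
    ∃ σ : MvPowerSeries (Fin N) k ≃+* MvPowerSeries (Fin N) k,
      (∀ p : MvPolynomial (Fin N) k, σ (p : MvPowerSeries (Fin N) k) = MvPolynomial.aeval η p) ∧
      ∀ (j : ℕ) (g : MvPowerSeries (Fin N) k), σ g ∈ M k N ^ j ↔ g ∈ M k N ^ j := by
  have hc : ∀ i, η i ∈ M k N := fun i => by
    rw [← hη]; exact Ideal.subset_span ⟨i, rfl⟩
  have hsurj := CurvesB.SeriesEval.eval_surjective (M k N) (C (σ := Fin N) (R := k)) η hc hη.symm (by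
    intro y
    obtain ⟨g, rfl⟩ := Ideal.Quotient.mk_surjective y
    refine ⟨constantCoeff g, ?_⟩
    rw [RingHom.comp_apply, Ideal.Quotient.mk_eq_mk_iff_sub_mem,
      CurvesB.SeriesEval.mem_span_range_X_iff]
    simp)
  have hinj := injective_of_surjective _ hsurj
  let σ : MvPowerSeries (Fin N) k ≃+* MvPowerSeries (Fin N) k :=
    RingEquiv.ofBijective _ ⟨hinj, hsurj⟩
  have hσ : ∀ p : MvPolynomial (Fin N) k, σ (p : MvPowerSeries (Fin N) k) = MvPolynomial.aeval η p :=
    fun p => by
      change CurvesB.SeriesEval.eval (M k N) (C (σ := Fin N) (R := k)) η hc p = _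
      rw [CurvesB.SeriesEval.eval_coe]
      rfl
  have hσX : ∀ i, σ (X i) = η i := fun i => CurvesB.SeriesEval.eval_X _ _ _ hc i
  refine ⟨σ, hσ, fun j g => ?_⟩
  have hmap : (M k N ^ j).map σ = M k N ^ j := by
    rw [Ideal.map_pow, Ideal.map_span, ← Set.range_comp]
    congr 1
    rw [← hη]
    congr 1
    ext z
    simp [hσX]
  conv_lhs => rw [← hmap]
  rw [Ideal.mem_map_of_equiv]
  constructor
  · rintro ⟨x, hx, hxg⟩
    rwa [← σ.injective hxg]
  · intro hg
    exact ⟨g, hg, rfl⟩

/-- The quadratic form with table `a` as a power series. -/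
noncomputable def quadSeries (a : Fin N → Fin N → k) : MvPowerSeries (Fin N) k :=
  ((VanCyc.quadPoly a : MvPolynomial (Fin N) k) : MvPowerSeries (Fin N) k)

theorem coeff_quadPoly (a : Fin N → Fin N → k) (d : Fin N →₀ ℕ) :
    MvPolynomial.coeff d (VanCyc.quadPoly a) =
      ∑ i : Fin N, ∑ j : Fin N, if i ≤ j then
        (if Finsupp.single i 1 + Finsupp.single j 1 = d then a i j else 0) else 0 := by
  unfold VanCyc.quadPoly
  rw [MvPolynomial.coeff_sum]
  refine Finset.sum_congr rfl fun i _ => ?_
  rw [MvPolynomial.coeff_sum]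
  refine Finset.sum_congr rfl fun j _ => ?_
  split_ifs with h1 h2
  · rw [← h2, mul_assoc, MvPolynomial.coeff_C_mul, MvPolynomial.X, MvPolynomial.X,
      MvPolynomial.monomial_mul, MvPolynomial.coeff_monomial]
    simp
  · rw [mul_assoc, MvPolynomial.coeff_C_mul, MvPolynomial.X, MvPolynomial.X,
      MvPolynomial.monomial_mul, MvPolynomial.coeff_monomial]
    simp [h2]
  · simp

/-- A quadratic form has no terms of degree different from `2`. -/
theorem coeff_quadPoly_of_ne (a : Fin N → Fin N → k) (d : Fin N →₀ ℕ) (hd : d.degree ≠ 2) :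
    MvPolynomial.coeff d (VanCyc.quadPoly a) = 0 := by
  rw [coeff_quadPoly]
  refine Finset.sum_eq_zero fun i _ => Finset.sum_eq_zero fun j _ => ?_
  split_ifs with h1 h2
  · exfalso
    apply hd
    rw [← h2, map_add, Finsupp.degree_single, Finsupp.degree_single]
  · rfl
  · rfl

theorem aeval_quadPoly {S : Type v} [CommRing S] [Algebra k S] (a : Fin N → Fin N → k)
    (v : Fin N → S) : MvPolynomial.aeval v (VanCyc.quadPoly a) =
      VanCyc.quadEval (fun i j => algebraMap k S (a i j)) v := by
  unfold VanCyc.quadPoly VanCyc.quadEval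
  rw [map_sum]
  refine Finset.sum_congr rfl fun i _ => ?_
  rw [map_sum]
  refine Finset.sum_congr rfl fun j _ => ?_
  split_ifs
  · simp
  · simp

theorem exists_single_of_degree_succ {d : Fin N →₀ ℕ} {n : ℕ} (hd : d.degree = n + 1) :
    ∃ (i : Fin N) (e : Fin N →₀ ℕ), e.degree = n ∧ d = Finsupp.single i 1 + e := by
  have h0 : d ≠ 0 := by
    rintro rfl
    simp at hd
  obtain ⟨i, hi⟩ := Finsupp.ne_iff.mp h0
  have hle : Finsupp.single i 1 ≤ d := by
    rw [Finsupp.single_le_iff]
    exact Nat.one_le_iff_ne_zero.mpr hi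
  obtain ⟨e, he⟩ := exists_add_of_le hle
  refine ⟨i, e, ?_, he⟩
  rw [he, map_add, Finsupp.degree_single] at hd
  omega

theorem exists_pair_of_degree_two {d : Fin N →₀ ℕ} (hd : d.degree = 2) :
    ∃ i j : Fin N, i ≤ j ∧ d = Finsupp.single i 1 + Finsupp.single j 1 := by
  obtain ⟨i, e, he, rfl⟩ := exists_single_of_degree_succ hd
  obtain ⟨j, e', he', rfl⟩ := exists_single_of_degree_succ he
  have : e' = 0 := (Finsupp.degree_eq_zero_iff _).mp he'
  subst this
  rcases le_total i j with h | h
  · exact ⟨i, j, h, by simp⟩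
  · exact ⟨j, i, h, by simp [add_comm]⟩

theorem coeff_quadPoly_pair (a : Fin N → Fin N → k) {i j : Fin N} (hij : i ≤ j) :
    MvPolynomial.coeff (Finsupp.single i 1 + Finsupp.single j 1) (VanCyc.quadPoly a) = a i j := by
  rw [coeff_quadPoly, Finset.sum_eq_single i, Finset.sum_eq_single j]
  · simp [hij]
  · intro j' _ hj'
    split_ifs with h1 h2
    · exfalso
      have h3 : (Finsupp.single j' 1 : Fin N →₀ ℕ) = Finsupp.single j 1 := by simpa using h2
      exact hj' (Finsupp.single_left_injective one_ne_zero h3)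
    · rfl
    · rfl
  · simp
  · intro i' _ hi'
    refine Finset.sum_eq_zero fun j' _ => ?_
    split_ifs with h1 h2
    · exfalso
      rw [Finsupp.single_add_single_eq_single_add_single (by norm_num) (by norm_num)] at h2
      rcases h2 with h2 | h2 | h2
      · exact hi' h2.1
      · obtain ⟨_, rfl, rfl⟩ := h2
        exact hi' (le_antisymm h1 hij)
      · omega
    · rfl
    · rfl
  · simp

/-- A power series without terms of order `< 2` is its quadratic part modulo `(x)^3`. -/
theorem sub_quadPart_mem {f : MvPowerSeries (Fin N) k} (hf : VanCyc.NoLowTerms f) :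
    f - ((VanCyc.quadPoly (VanCyc.quadPart f) : MvPolynomial (Fin N) k) : MvPowerSeries (Fin N) k)
      ∈ M k N ^ 3 := by
  rw [mem_pow_iff]
  intro d hd
  rw [map_sub, MvPolynomial.coeff_coe, sub_eq_zero]
  obtain h | h | h : d.degree = 0 ∨ d.degree = 1 ∨ d.degree = 2 := by omega
  · rw [coeff_quadPoly_of_ne _ _ (by omega)]
    rw [Finsupp.degree_eq_zero_iff] at h
    subst h
    exact hf.1
  · rw [coeff_quadPoly_of_ne _ _ (by omega)]
    obtain ⟨i, e, he, rfl⟩ := exists_single_of_degree_succ h
    rw [Finsupp.degree_eq_zero_iff] at he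
    subst he
    simpa using hf.2 i
  · obtain ⟨i, j, hij, rfl⟩ := exists_pair_of_degree_two h
    rw [coeff_quadPoly_pair _ hij]
    unfold VanCyc.quadPart
    rcases hij.eq_or_lt with h1 | h1
    · subst h1
      rw [if_pos rfl, ← Finsupp.single_add]
    · rw [if_neg h1.ne, if_pos h1]

theorem mem_sq_of_noLowTerms {f : MvPowerSeries (Fin N) k} (hf : VanCyc.NoLowTerms f) :
    f ∈ M k N ^ 2 := by
  rw [mem_pow_iff]
  intro d hd
  obtain h | h : d.degree = 0 ∨ d.degree = 1 := by omega
  · rw [Finsupp.degree_eq_zero_iff] at h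
    subst h
    exact hf.1
  · obtain ⟨i, e, he, rfl⟩ := exists_single_of_degree_succ h
    rw [Finsupp.degree_eq_zero_iff] at he
    subst he
    simpa using hf.2 i

/-- An ordinary quadratic form in at least one variable is nonzero, hence not in `(x)^3`. -/
theorem quadPoly_notMem (hN : 0 < N) {a : Fin N → Fin N → k} (ha : VanCyc.QuadOrd a) :
    VanCyc.quadPoly a ∉ MvPolynomial.idealOfVars (Fin N) k ^ 3 := by
  intro h
  have h0 : VanCyc.quadPoly a = 0 := by
    ext d
    rw [MvPolynomial.coeff_zero]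
    by_cases hd : d.degree = 2
    · exact (MvPolynomial.mem_pow_idealOfVars_iff' _ _).mp h d (by omega)
    · exact coeff_quadPoly_of_ne _ _ hd
  have h1 : ∀ v : Fin N → k, VanCyc.quadEval a v = 0 := fun v => by
    have := aeval_quadPoly (S := k) a v
    rw [h0, map_zero] at this
    exact this.symm
  rw [QuadTab.quadOrd_iff] at ha
  have h2 := ha (fun _ => 1) (h1 _) (fun w => by rw [h1, h1, h1, add_zero])
  have h3 := congrFun h2 ⟨0, hN⟩
  simp at h3

end Groth.Agent.Vancyc.H689.PSPow
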