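import Groth.Agent.Vancyc.H689.Iso
import Mathlib.FieldTheory.IsAlgClosed.Basic
import Mathlib.FieldTheory.IsSepClosed

/-!
# The henselization of the cone is the henselization of the given ring
-/

set_option autoImplicit false
universe u

namespace Groth.Agent.Vancyc.H689.Final

open IsLocalRing PSPow Cone VanCyc

theorem isSepClosed_residueField {k : Type u} [Field k] [IsAlgClosed k] {C : Type u} [CommRing C]
    [IsLocalRing C] [Algebra k C] (hres : ∀ y : C, ∃ c : k, y - algebraMap k C c ∈ maximalIdeal C) :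
    IsSepClosed (ResidueField C) := by
  have hbij : Function.Bijective ((residue C).comp (algebraMap k C)) := by
    refine ⟨RingHom.injective _, fun z => ?_⟩
    obtain ⟨y, rfl⟩ := residue_surjective z
    obtain ⟨c, hc⟩ := hres y
    refine ⟨c, ?_⟩
    rw [← residue_eq_zero_iff, map_sub, sub_eq_zero] at hc
    exact hc.symm
  have : IsAlgClosed (ResidueField C) :=
    IsAlgClosed.of_ringEquiv k (ResidueField C) (RingEquiv.ofBijective _ hbij)
  infer_instance

theorem nonempty_equiv {k : Type u} [Field k] [IsAlgClosed k]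
    {O : Type u} [CommRing O] [IsLocalRing O] [Algebra k O] [Algebra.EssFiniteType k O]
    (hk : ∀ y : O, ∃ c : k, y - algebraMap k O c ∈ maximalIdeal O)
    {Oh : Type u} [CommRing Oh] [IsLocalRing Oh] [Algebra O Oh] [IsLocalHom (algebraMap O Oh)]
    [Hensel.IsHenselization O Oh] [Algebra k Oh] [IsScalarTower k O Oh] {n : ℕ}
    (f : MvPowerSeries (Fin (n + 1)) k) (hf : OrdQuadSeries f) (hT : ∀ j, TruncPS.HasTrunc f Oh j)
    (a : Fin (n + 1) → Fin (n + 1) → k) (ha : QuadOrd a)
    (y : Fin (n + 1) → Oh) (hy : Ideal.span (Set.range y) = maximalIdeal Oh)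
    (hQy : MvPolynomial.aeval y (quadPoly a) = 0) [(originQuot k a 0).IsPrime]
    (C : Type u) [CommRing C] [IsLocalRing C] [Algebra (LocR a) C]
    [IsLocalHom (algebraMap (LocR a) C)] [Hensel.IsHenselization (LocR a) C]
    [Algebra k C] [IsScalarTower k (LocR a) C] : Nonempty (Oh ≃ₐ[k] C) := by
  have hym : ∀ i, y i ∈ maximalIdeal Oh := fun i => by
    rw [← hy]; exact Ideal.subset_span ⟨i, rfl⟩
  have hensOh : HenselianLocalRing Oh := Hensel.IsHenselization.henselian O
  have hHC : Hensel.IsHenselization (LocR a) C := inferInstance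
  have hensC : HenselianLocalRing C := hHC.henselian
  have hnC : IsNoetherianRing C := isNoetherianRing_hens a C
  have hresC := Cone.hres_hens a C (k := k)
  have hsep : IsSepClosed (ResidueField C) := isSepClosed_residueField hresC
  obtain ⟨ψ, hψloc, hψ⟩ := exists_hom a y hym hQy
  obtain ⟨g₀, hg₀, -⟩ := hHC.universal Oh ψ.toRingHom hψloc
  have hg₀' : ∀ z : LocR a, g₀ (algebraMap (LocR a) C z) = ψ z := fun z => DFunLike.congr_fun hg₀ z
  let g : C →ₐ[k] Oh :=
    { toRingHom := g₀
      commutes' := fun c => by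
        change g₀ (algebraMap k C c) = _
        rw [IsScalarTower.algebraMap_apply k (LocR a) C, hg₀', AlgHom.commutes] }
  have hgx : ∀ i, g (crdH a C i) = y i := fun i => by
    change g₀ (algebraMap (LocR a) C (crd a i)) = _
    rw [hg₀', hψ]
  have hgm : (maximalIdeal C).map g.toRingHom = maximalIdeal Oh := by
    rw [← span_crdH a C, Ideal.map_span, ← Set.range_comp, ← hy]
    congr 1
    ext w
    constructor
    · rintro ⟨i, rfl⟩; exact ⟨i, (hgx i).symm⟩
    · rintro ⟨i, rfl⟩; exact ⟨i, hgx i⟩
  have hgloc : IsLocalHom g.toRingHom := ⟨fun c hc => by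
    by_contra hcon
    have h1 : g.toRingHom c ∈ maximalIdeal Oh := by
      rw [← hgm]
      exact Ideal.mem_map_of_mem _ ((mem_maximalIdeal _).mpr hcon)
    exact (mem_maximalIdeal _).mp h1 hc⟩
  have hinj : Function.Injective g := by
    refine Iso.injective_of_relations hresC (crdH a C) (span_crdH a C) (quadPoly a)
      (aeval_crdH_quadPoly a C) g hgm.le fun j hj p hp => ?_
    have e : (fun i => g (crdH a C i)) = y := funext hgx
    rw [e] at hp
    exact KerClaim.mem_of_aeval_mem hj (Nat.succ_pos n) f hf.1 (hT j) y hy ha hQy p hp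
  have hsurj : Function.Surjective g := by
    let _ : Algebra C Oh := g.toRingHom.toAlgebra
    have _ : IsScalarTower k C Oh := IsScalarTower.of_algebraMap_eq fun c => (g.commutes c).symm
    have _ : IsLocalHom (algebraMap C Oh) := hgloc
    refine Iso.surjective_of_span (k := k) (O := O) hk (crdH a C) ?_
    rw [← hy]
    congr 2
    exact funext hgx
  exact ⟨(AlgEquiv.ofBijective g ⟨hinj, hsurj⟩).symm⟩

end Groth.Agent.Vancyc.H689.Final
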