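import Groth.Prelude.Def_QuadSing
import Groth.Prelude.Def_Hensel
import Groth.Agent.Vancyc.H689.PSPow
import Groth.Agent.S0507
import Groth.Agent.S0508
import Groth.Agent.S0511
import Mathlib.RingTheory.Polynomial.Basic
import Mathlib.RingTheory.Localization.Submodule
import Mathlib.RingTheory.Localization.AtPrime.Basic

/-!
# The local ring at the vertex of a quadratic cone
-/

set_option autoImplicit false
universe u v

namespace Groth.Agent.Vancyc.H689.Cone

open IsLocalRing VanCyc

section Generic

variable {k : Type u} [Field k] {R : Type u} [CommRing R] [Algebra k R] (q : Ideal R) [q.IsPrime]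
  (h : ∀ r : R, ∃ c : k, r - algebraMap k R c ∈ q) (L : Type u) [CommRing L] [IsLocalRing L]
  [Algebra R L] [IsLocalization.AtPrime L q] [Algebra k L] [IsScalarTower k R L]

include q in
theorem algebraMap_mem {z : R} (hz : z ∈ q) : algebraMap R L z ∈ maximalIdeal L := by
  rw [← IsLocalization.AtPrime.map_eq_maximalIdeal q L]
  exact Ideal.mem_map_of_mem _ hz

include q h in
theorem hres_generic (y : L) : ∃ c : k, y - algebraMap k L c ∈ maximalIdeal L := by
  obtain ⟨r, s, rfl⟩ := IsLocalization.exists_mk'_eq q.primeCompl y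
  obtain ⟨r0, hr0⟩ := h r
  obtain ⟨s0, hs0⟩ := h s
  have hs0' : s0 ≠ 0 := by
    rintro rfl
    rw [map_zero, sub_zero] at hs0
    exact s.2 hs0
  refine ⟨r0 / s0, ?_⟩
  have hsu : IsUnit (algebraMap R L s) := IsLocalization.map_units _ s
  suffices h : algebraMap R L s *
      (IsLocalization.mk' L r s - algebraMap k L (r0 / s0)) ∈ maximalIdeal L from
    (Ideal.unit_mul_mem_iff_mem _ hsu).mp h
  have e : algebraMap R L s * (IsLocalization.mk' L r s - algebraMap k L (r0 / s0)) =
      algebraMap R L (r - algebraMap k _ r0) -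
      algebraMap R L (s - algebraMap k _ s0) * algebraMap k L (r0 / s0) := by
    have e1 : algebraMap k L s0 * algebraMap k L (r0 / s0) = algebraMap k L r0 := by
      rw [← map_mul, mul_div_cancel₀ _ hs0']
    have e2 : IsLocalization.mk' L r s * algebraMap R L s = algebraMap R L r :=
      IsLocalization.mk'_spec _ _ _
    rw [map_sub, map_sub, ← IsScalarTower.algebraMap_apply, ← IsScalarTower.algebraMap_apply]
    linear_combination e2 - e1
  rw [e]
  exact Ideal.sub_mem _ (algebraMap_mem q L hr0) (Ideal.mul_mem_right _ _ (algebraMap_mem q L hs0))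

omit [IsLocalRing L] in
include h in
/-- Maps from the localization. -/
theorem exists_hom_generic {S : Type u} [CommRing S] [IsLocalRing S] [Algebra k S] (ψ₀ : R →ₐ[k] S)
    (hψ₀ : ∀ z ∈ q, ψ₀ z ∈ maximalIdeal S) :
    ∃ ψ : L →ₐ[k] S, IsLocalHom ψ.toRingHom ∧ ∀ z, ψ (algebraMap R L z) = ψ₀ z := by
  have hunit : ∀ z : q.primeCompl, IsUnit (ψ₀ z) := by
    intro z
    obtain ⟨c, hc⟩ := h z
    have hc' : c ≠ 0 := by
      rintro rfl
      rw [map_zero, sub_zero] at hc
      exact z.2 hc
    have h1 := hψ₀ _ hc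
    rw [map_sub, AlgHom.commutes] at h1
    by_contra hcon
    have h2 : ψ₀ z ∈ maximalIdeal S := (mem_maximalIdeal _).mpr hcon
    have h3 := (maximalIdeal S).sub_mem h2 h1
    rw [sub_sub_cancel] at h3
    exact (mem_maximalIdeal _).mp h3 ((IsUnit.mk0 c hc').map (algebraMap k S))
  let ψ : L →ₐ[k] S := IsLocalization.liftAlgHom (M := q.primeCompl) (f := ψ₀) hunit
  have hψ : ∀ z, ψ (algebraMap _ _ z) = ψ₀ z := fun z => by
    simp [ψ]
  refine ⟨ψ, ⟨fun b hb => ?_⟩, hψ⟩
  obtain ⟨r, s, rfl⟩ := IsLocalization.exists_mk'_eq q.primeCompl b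
  rw [IsLocalization.AtPrime.isUnit_mk'_iff L q]
  intro hr
  have h1 : ψ (IsLocalization.mk' _ r s) * ψ₀ s = ψ₀ r := by
    rw [← hψ, ← hψ, ← map_mul, IsLocalization.mk'_spec]
  have h2 : IsUnit (ψ₀ r) := by
    rw [← h1]
    exact hb.mul (hunit s)
  exact (mem_maximalIdeal _).mp (hψ₀ r hr) h2

end Generic

variable {k : Type u} [Field k] {N : ℕ} (a : Fin N → Fin N → k)

/-- The image of a polynomial in the coordinate ring of the cone. -/
noncomputable abbrev mk : MvPolynomial (Fin N) k →ₐ[k] quadRing k a 0 :=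
  Ideal.Quotient.mkₐ k _

theorem originIdeal_eq : originIdeal k = MvPolynomial.idealOfVars (Fin N) k := by
  unfold originIdeal
  have : maximalIdeal k = ⊥ := IsLocalRing.maximalIdeal_eq_bot
  rw [this, Ideal.map_bot, bot_sup_eq]

theorem originQuot_eq : originQuot k a 0 =
    Ideal.span (Set.range fun i => mk a (MvPolynomial.X i)) := by
  unfold originQuot
  rw [originIdeal_eq, MvPolynomial.idealOfVars, Ideal.map_span, ← Set.range_comp]
  rfl

theorem mk_quadPoly : mk a (quadPoly a) = 0 := by
  refine Ideal.Quotient.eq_zero_iff_mem.mpr ?_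
  have h1 : quadPoly a - MvPolynomial.C 0 ∈ Ideal.span {quadPoly a - MvPolynomial.C 0} :=
    Ideal.subset_span rfl
  convert h1 using 1
  rw [map_zero, sub_zero]

theorem exists_const (r : quadRing k a 0) : ∃ c : k, r - algebraMap k _ c ∈ originQuot k a 0 := by
  obtain ⟨p, rfl⟩ := Ideal.Quotient.mk_surjective r
  refine ⟨MvPolynomial.constantCoeff p, ?_⟩
  have h1 : p - MvPolynomial.C (MvPolynomial.constantCoeff p) ∈ originIdeal k := by
    rw [originIdeal_eq, ← pow_one (MvPolynomial.idealOfVars (Fin N) k),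
      MvPolynomial.mem_pow_idealOfVars_iff']
    intro d hd
    have : d = 0 := (Finsupp.degree_eq_zero_iff _).mp (by omega)
    subst this
    simp [MvPolynomial.constantCoeff_eq]
  have h2 := Ideal.mem_map_of_mem (Ideal.Quotient.mk (Ideal.span {quadPoly a - MvPolynomial.C 0})) h1
  rw [map_sub] at h2
  exact h2

variable [(originQuot k a 0).IsPrime]

/-- The local ring at the vertex. -/
noncomputable abbrev LocR := Localization.AtPrime (originQuot k a 0)

/-- The coordinates at the vertex. -/
noncomputable def crd (i : Fin N) : LocR a := algebraMap (quadRing k a 0) _ (mk a (MvPolynomial.X i))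

theorem algebraMap_mk (p : MvPolynomial (Fin N) k) :
    algebraMap (quadRing k a 0) (LocR a) (mk a p) = MvPolynomial.aeval (crd a) p := by
  have h : (IsScalarTower.toAlgHom k (quadRing k a 0) (LocR a)).comp (mk a) =
      MvPolynomial.aeval (crd a) := by
    ext i
    simp [crd]
  exact DFunLike.congr_fun h p

theorem span_crd : Ideal.span (Set.range (crd a)) = maximalIdeal (LocR a) := by
  rw [← IsLocalization.AtPrime.map_eq_maximalIdeal (originQuot k a 0) (LocR a)]
  refine Eq.symm ((congrArg (Ideal.map (algebraMap (quadRing k a 0) (LocR a)))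
    (originQuot_eq a)).trans ?_)
  rw [Ideal.map_span, ← Set.range_comp]
  rfl

theorem aeval_crd : MvPolynomial.aeval (crd a) (quadPoly a) = 0 := by
  rw [← algebraMap_mk, mk_quadPoly, map_zero]

theorem hres_locR (y : LocR a) : ∃ c : k, y - algebraMap k _ c ∈ maximalIdeal (LocR a) :=
  hres_generic (originQuot k a 0) (exists_const a) (LocR a) y

instance : IsNoetherianRing (LocR a) := by
  have : IsNoetherianRing (quadRing k a 0) := inferInstance
  exact IsLocalization.isNoetherianRing (originQuot k a 0).primeCompl _ this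

/-- Maps from the local ring at the vertex. -/
theorem exists_hom {S : Type u} [CommRing S] [IsLocalRing S] [Algebra k S] (y : Fin N → S)
    (hy : ∀ i, y i ∈ maximalIdeal S) (hq : MvPolynomial.aeval y (quadPoly a) = 0) :
    ∃ ψ : LocR a →ₐ[k] S, IsLocalHom ψ.toRingHom ∧ ∀ i, ψ (crd a i) = y i := by
  let ψ₀ : quadRing k a 0 →ₐ[k] S := Ideal.Quotient.liftₐ _ (MvPolynomial.aeval y) (by
    intro p hp
    have h1 : Ideal.span {quadPoly a - MvPolynomial.C 0} ≤ RingHom.ker (MvPolynomial.aeval y) := by
      rw [Ideal.span_le]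
      rintro _ rfl
      change MvPolynomial.aeval y (quadPoly a - MvPolynomial.C 0) = 0
      rw [map_zero, sub_zero, hq]
    exact h1 hp)
  have hψ₀X : ∀ i, ψ₀ (mk a (MvPolynomial.X i)) = y i := fun i => by
    change MvPolynomial.aeval y (MvPolynomial.X i) = y i
    simp
  have hψ₀m : ∀ z ∈ originQuot k a 0, ψ₀ z ∈ maximalIdeal S := by
    intro z hz
    rw [originQuot_eq] at hz
    have h1 : Ideal.span (Set.range fun i => mk a (MvPolynomial.X i)) ≤
        (maximalIdeal S).comap ψ₀.toRingHom := by
      rw [Ideal.span_le]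
      rintro _ ⟨i, rfl⟩
      change ψ₀ (mk a (MvPolynomial.X i)) ∈ maximalIdeal S
      rw [hψ₀X]
      exact hy i
    exact h1 hz
  obtain ⟨ψ, h1, h2⟩ := exists_hom_generic (originQuot k a 0) (exists_const a) (LocR a) ψ₀ hψ₀m
  exact ⟨ψ, h1, fun i => (h2 _).trans (hψ₀X i)⟩

section Hensel

variable (C : Type u) [CommRing C] [Algebra (LocR a) C]

/-- The coordinates in the henselization. -/
noncomputable def crdH (i : Fin N) : C := algebraMap (LocR a) C (crd a i)

theorem aeval_crdH [Algebra k C] [IsScalarTower k (LocR a) C] (p : MvPolynomial (Fin N) k) :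
    MvPolynomial.aeval (crdH a C) p = algebraMap (LocR a) C (MvPolynomial.aeval (crd a) p) := by
  have h : MvPolynomial.aeval (crdH a C) =
      (IsScalarTower.toAlgHom k (LocR a) C).comp (MvPolynomial.aeval (crd a)) := by
    ext i
    simp [crdH]
  exact DFunLike.congr_fun h p

theorem aeval_crdH_quadPoly [Algebra k C] [IsScalarTower k (LocR a) C] :
    MvPolynomial.aeval (crdH a C) (quadPoly a) = 0 := by
  rw [aeval_crdH, aeval_crd, map_zero]

variable [IsLocalRing C] [IsLocalHom (algebraMap (LocR a) C)] [Hensel.IsHenselization (LocR a) C]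

theorem span_crdH : Ideal.span (Set.range (crdH a C)) = maximalIdeal C := by
  rw [← Groth.Agent.S0507.result (LocR a) C, ← span_crd, Ideal.map_span, ← Set.range_comp]
  rfl

include a in
theorem hres_hens [Algebra k C] [IsScalarTower k (LocR a) C] (y : C) :
    ∃ c : k, y - algebraMap k C c ∈ maximalIdeal C := by
  obtain ⟨z, hz⟩ := (Groth.Agent.S0508.result (LocR a) C).2 (residue C y)
  obtain ⟨b, rfl⟩ := residue_surjective z
  obtain ⟨c, hc⟩ := hres_locR a b
  refine ⟨c, ?_⟩
  have h1 : y - algebraMap (LocR a) C b ∈ maximalIdeal C := by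
    rw [← residue_eq_zero_iff, map_sub, sub_eq_zero, ← hz]
    rfl
  have h2 : algebraMap (LocR a) C (b - algebraMap k _ c) ∈ maximalIdeal C := by
    rw [← Groth.Agent.S0507.result (LocR a) C]
    exact Ideal.mem_map_of_mem _ hc
  rw [map_sub, ← IsScalarTower.algebraMap_apply] at h2
  have h3 := (maximalIdeal C).add_mem h1 h2
  rwa [sub_add_sub_cancel] at h3

include a in
theorem isNoetherianRing_hens : IsNoetherianRing C :=
  (Groth.Agent.S0511.result (LocR a) C).mp inferInstance

end Hensel

end Groth.Agent.Vancyc.H689.Cone
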