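import Groth.Agent.Vancyc.H689.QuadTab
import Mathlib.RingTheory.Henselian
import Mathlib.LinearAlgebra.QuadraticForm.Basic
import Mathlib.LinearAlgebra.FreeModule.Finite.Basic
import Mathlib.LinearAlgebra.Dimension.Constructions
import Mathlib.RingTheory.LocalRing.Module
import Mathlib.Algebra.Polynomial.Derivative

/-!
# Quadratic forms over henselian local rings, split by hyperbolic planes

Over a henselian local ring `R` in whose residue field quadratic equations are solvable, a quadratic form on a free
module whose reduction modulo the maximal ideal is ordinary is, in suitable coordinates, a unit times the standard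
form `x_0 x_1 + x_2 x_3 + ⋯ (+ x_{N-1}²)`.
-/

set_option autoImplicit false
universe u v

namespace Groth.Agent.Vancyc.H689.QuadSplit

open IsLocalRing

variable {R : Type u} [CommRing R]

/-- Hensel's lemma for a quadratic polynomial with small constant term. -/
theorem exists_root_of_small [HenselianLocalRing R] (a b c : R) (hb : IsUnit b)
    (hc : c ∈ maximalIdeal R) : ∃ t ∈ maximalIdeal R, a * t ^ 2 + b * t + c = 0 := by
  -- find a unit root `r` of `r^2 + b r + a c` near `-b`, and put `t = c / r`
  obtain ⟨r, hr, hr'⟩ := HenselianLocalRing.is_henselian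
    (Polynomial.X ^ 2 + (Polynomial.C b * Polynomial.X + Polynomial.C (a * c)))
    (by
      refine Polynomial.monic_X_pow_add ?_
      exact lt_of_le_of_lt (Polynomial.degree_linear_le) (by norm_num))
    (-b)
    (by
      simp only [Polynomial.eval_add, Polynomial.eval_pow, Polynomial.eval_X, Polynomial.eval_mul,
        Polynomial.eval_C]
      have : (-b) ^ 2 + (b * -b + a * c) = a * c := by ring
      rw [this]
      exact Ideal.mul_mem_left _ _ hc)
    (by
      simp only [Polynomial.derivative_add, Polynomial.derivative_X_pow, Polynomial.derivative_mul,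
        Polynomial.derivative_C, Polynomial.derivative_X, Polynomial.eval_add, Polynomial.eval_mul,
        Polynomial.eval_C, Polynomial.eval_pow, Polynomial.eval_X]
      have : ((2 : ℕ) : R) * (-b) ^ (2 - 1) + (Polynomial.eval (-b) 0 * -b + b * Polynomial.eval (-b) 1
          + Polynomial.eval (-b) 0) = -b := by
        simp; ring
      rw [this]
      exact hb.neg)
  have hru : IsUnit r := by
    have h1 : r = -b + (r - -b) := by ring
    rw [h1]
    by_contra hcon
    have h2 : -b + (r - -b) ∈ maximalIdeal R := (mem_maximalIdeal _).mpr hcon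
    have h3 : -b ∈ maximalIdeal R := by
      have := (maximalIdeal R).sub_mem h2 hr'
      simpa using this
    exact (mem_maximalIdeal _).mp h3 hb.neg
  obtain ⟨r, rfl⟩ := hru
  refine ⟨c * ↑r⁻¹, Ideal.mul_mem_right _ _ hc, ?_⟩
  have hr2 : (r : R) ^ 2 + (b * r + a * c) = 0 := by
    simpa [Polynomial.IsRoot.def] using hr
  have key : (r : R) ^ 2 * (a * (c * ↑r⁻¹) ^ 2 + b * (c * ↑r⁻¹) + c) = 0 := by
    have h4 : (r : R) * ↑r⁻¹ = 1 := r.mul_inv
    calc (r : R) ^ 2 * (a * (c * ↑r⁻¹) ^ 2 + b * (c * ↑r⁻¹) + c)
        = a * c ^ 2 * ((r : R) * ↑r⁻¹) ^ 2 + b * c * r * ((r : R) * ↑r⁻¹) + c * (r : R) ^ 2 := by ring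
      _ = c * ((r : R) ^ 2 + (b * r + a * c)) := by rw [h4]; ring
      _ = 0 := by rw [hr2, mul_zero]
  exact (r.isUnit.pow 2).mul_right_eq_zero.mp key

variable {V : Type v} [AddCommGroup V] [Module R V]

/-- A quadratic form over a local ring whose reduction modulo the maximal ideal is ordinary. -/
def OrdMod [IsLocalRing R] (q : QuadraticForm R V) : Prop :=
  ∀ v : V, q v ∈ maximalIdeal R → (∀ w, QuadraticMap.polar q v w ∈ maximalIdeal R) →
    v ∈ (maximalIdeal R) • (⊤ : Submodule R V)

/-- A coordinate of an element of `m V` lies in `m`. -/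
theorem coord_mem_of_mem_smul_top (I : Ideal R) (φ : V →ₗ[R] R) {v : V}
    (hv : v ∈ I • (⊤ : Submodule R V)) : φ v ∈ I := by
  have h1 : φ v ∈ (I • (⊤ : Submodule R V)).map φ := ⟨v, hv, rfl⟩
  rw [Submodule.map_smul''] at h1
  have h2 : I • Submodule.map φ ⊤ ≤ I := by
    rw [Submodule.smul_le]
    intro r hr n _
    exact Ideal.mul_mem_right _ _ hr
  exact h2 h1

/-- Existence of a hyperbolic pair. -/
theorem exists_hyperbolic [HenselianLocalRing R]
    (hroot : ∀ a b c : R, IsUnit a → ∃ s, a * s ^ 2 + b * s + c ∈ maximalIdeal R)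
    {N : ℕ} (b : Module.Basis (Fin (N + 2)) R V) (q : QuadraticForm R V) (hq : OrdMod q) :
    ∃ e f : V, q e = 0 ∧ q f = 0 ∧ QuadraticMap.polar q e f = 1 := by
  -- an isotropic vector modulo `m`
  obtain ⟨v, hv, hv'⟩ : ∃ v : V, q v ∈ maximalIdeal R ∧ v ∉ (maximalIdeal R) • (⊤ : Submodule R V) := by
    by_cases h0 : IsUnit (q (b 0))
    · obtain ⟨s, hs⟩ := hroot (q (b 0)) (QuadraticMap.polar q (b 0) (b 1)) (q (b 1)) h0
      refine ⟨s • b 0 + b 1, ?_, fun h => ?_⟩
      · have : q (s • b 0 + b 1) = q (b 0) * s ^ 2 + QuadraticMap.polar q (b 0) (b 1) * s + q (b 1) := by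
          rw [QuadraticMap.map_add q, QuadraticMap.map_smul, QuadraticMap.polar_smul_left]
          simp only [smul_eq_mul]
          ring
        rw [this]; exact hs
      · have h1 := coord_mem_of_mem_smul_top (maximalIdeal R) (b.coord 1) h
        have h2 : b.coord 1 (s • b 0 + b 1) = 1 := by
          simp [Module.Basis.coord_apply]
        rw [h2] at h1
        exact (mem_maximalIdeal _).mp h1 isUnit_one
    · refine ⟨b 0, (mem_maximalIdeal _).mpr h0, fun h => ?_⟩
      have h1 := coord_mem_of_mem_smul_top (maximalIdeal R) (b.coord 0) h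
      have h2 : b.coord 0 (b 0) = 1 := by
        simp [Module.Basis.coord_apply]
      rw [h2] at h1
      exact (mem_maximalIdeal _).mp h1 isUnit_one
  obtain ⟨w, hw⟩ : ∃ w, IsUnit (QuadraticMap.polar q v w) := by
    by_contra hcon
    push Not at hcon
    exact hv' (hq v hv fun w => (mem_maximalIdeal _).mpr (hcon w))
  obtain ⟨t, ht, ht'⟩ := exists_root_of_small (q w) (QuadraticMap.polar q v w) (q v) hw hv
  have he : q (v + t • w) = 0 := by
    rw [QuadraticMap.map_add q, QuadraticMap.map_smul, QuadraticMap.polar_smul_right]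
    simp only [smul_eq_mul]
    linear_combination ht'
  have hpol : IsUnit (QuadraticMap.polar q (v + t • w) w) := by
    rw [QuadraticMap.polar_add_left, QuadraticMap.polar_smul_left]
    by_contra hcon
    have h1 : QuadraticMap.polar q v w + t • QuadraticMap.polar q w w ∈ maximalIdeal R :=
      (mem_maximalIdeal _).mpr hcon
    have h2 : t • QuadraticMap.polar q w w ∈ maximalIdeal R := Ideal.mul_mem_right _ _ ht
    have h3 := (maximalIdeal R).sub_mem h1 h2
    rw [add_sub_cancel_right] at h3
    exact (mem_maximalIdeal _).mp h3 hw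
  obtain ⟨p, hp⟩ := hpol
  obtain ⟨e, he_def⟩ : ∃ e, e = v + t • w := ⟨_, rfl⟩
  rw [← he_def] at he hp
  obtain ⟨f₁, hf₁⟩ : ∃ f₁, f₁ = (↑p⁻¹ : R) • w := ⟨_, rfl⟩
  have hef₁ : QuadraticMap.polar q e f₁ = 1 := by
    rw [hf₁, QuadraticMap.polar_smul_right, ← hp, smul_eq_mul, Units.inv_mul]
  refine ⟨e, f₁ - q f₁ • e, he, ?_, ?_⟩
  · rw [sub_eq_add_neg, ← neg_smul, QuadraticMap.map_add q, QuadraticMap.map_smul,
      QuadraticMap.polar_smul_right, he, QuadraticMap.polar_comm, hef₁]
    simp
  · rw [sub_eq_add_neg, ← neg_smul, QuadraticMap.polar_add_right, QuadraticMap.polar_smul_right,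
      hef₁, QuadraticMap.polar_self, he]
    simp

/-- The two coordinates along a hyperbolic pair. -/
noncomputable def hypCoord (q : QuadraticForm R V) (e f : V) : V →ₗ[R] R × R :=
  LinearMap.prod ((QuadraticMap.polarBilin q) f) ((QuadraticMap.polarBilin q) e)

theorem hypCoord_apply (q : QuadraticForm R V) (e f v : V) :
    hypCoord q e f v = (QuadraticMap.polar q f v, QuadraticMap.polar q e v) := rfl

/-- The splitting off of a hyperbolic plane. -/
noncomputable def hypEquiv (q : QuadraticForm R V) (e f : V) (he : q e = 0) (hf : q f = 0)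
    (hef : QuadraticMap.polar q e f = 1) : V ≃ₗ[R] (R × R) × LinearMap.ker (hypCoord q e f) where
  toFun v := (hypCoord q e f v, ⟨v - ((hypCoord q e f v).1 • e + (hypCoord q e f v).2 • f), by
    rw [LinearMap.mem_ker]
    have hfe : QuadraticMap.polar q f e = 1 := by rw [QuadraticMap.polar_comm, hef]
    simp only [hypCoord_apply, QuadraticMap.polar_sub_right, QuadraticMap.polar_add_right,
      QuadraticMap.polar_smul_right, hef, hfe, QuadraticMap.polar_self, he, hf]
    simp⟩)
  map_add' v w := by
    ext
    · simp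
    · simp
    · simp only [map_add, Prod.fst_add, Prod.snd_add, Submodule.coe_add]
      module
  map_smul' c v := by
    ext
    · simp
    · simp
    · simp only [map_smul, Prod.smul_fst, Prod.smul_snd, Submodule.coe_smul, RingHom.id_apply]
      module
  invFun x := (x.1.1 • e + x.1.2 • f) + (x.2 : V)
  left_inv v := by simp
  right_inv x := by
    obtain ⟨⟨α, β⟩, ⟨w, hw⟩⟩ := x
    have hfe : QuadraticMap.polar q f e = 1 := by rw [QuadraticMap.polar_comm, hef]
    have hw' := hw
    rw [LinearMap.mem_ker, hypCoord_apply, Prod.mk_eq_zero] at hw'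
    have h1 : hypCoord q e f ((α • e + β • f) + w) = (α, β) := by
      simp only [hypCoord_apply, QuadraticMap.polar_add_right,
        QuadraticMap.polar_smul_right, hef, hfe, QuadraticMap.polar_self, he, hf, hw'.1, hw'.2]
      simp
    ext
    · simp [h1]
    · simp [h1]
    · simp [h1]

theorem hypEquiv_symm_apply (q : QuadraticForm R V) (e f : V) (he : q e = 0) (hf : q f = 0)
    (hef : QuadraticMap.polar q e f = 1) (x : (R × R) × LinearMap.ker (hypCoord q e f)) :
    (hypEquiv q e f he hf hef).symm x = (x.1.1 • e + x.1.2 • f) + (x.2 : V) := rfl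

/-- The value of the form in the new coordinates. -/
theorem apply_hyp (q : QuadraticForm R V) (e f : V) (he : q e = 0) (hf : q f = 0)
    (hef : QuadraticMap.polar q e f = 1) (α β : R) (w : V) (hw : w ∈ LinearMap.ker (hypCoord q e f)) :
    q ((α • e + β • f) + w) = α * β + q w := by
  rw [LinearMap.mem_ker, hypCoord_apply, Prod.mk_eq_zero] at hw
  rw [QuadraticMap.map_add q, QuadraticMap.map_add q (α • e), QuadraticMap.map_smul,
    QuadraticMap.map_smul, he, hf]
  simp [QuadraticMap.polar_add_left, QuadraticMap.polar_smul_left, QuadraticMap.polar_smul_right,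
    hef, hw.1, hw.2, mul_comm]

/-- The linear coordinates `(c, w) ↦ (u⁻¹ c.1, c.2, φ w)`. -/
noncomputable def consEquiv {W : Type v} [AddCommGroup W] [Module R W] {N : ℕ} (u : Rˣ)
    (φ : W ≃ₗ[R] (Fin N → R)) : ((R × R) × W) ≃ₗ[R] (Fin (N + 2) → R) :=
  (LinearEquiv.prodCongr (LinearEquiv.prodCongr (LinearEquiv.smulOfUnit u⁻¹) (LinearEquiv.refl R R))
    φ).trans ((LinearEquiv.prodAssoc R R R (Fin N → R)).trans
      ((LinearEquiv.prodCongr (LinearEquiv.refl R R) (Fin.consLinearEquiv R (fun _ : Fin (N + 1) => R))).trans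
        (Fin.consLinearEquiv R (fun _ : Fin (N + 2) => R))))

theorem consEquiv_apply {W : Type v} [AddCommGroup W] [Module R W] {N : ℕ} (u : Rˣ)
    (φ : W ≃ₗ[R] (Fin N → R)) (α β : R) (w : W) :
    consEquiv u φ ((α, β), w) = Fin.cons (↑u⁻¹ * α) (Fin.cons β (φ w)) := rfl

theorem quadEval_consEquiv {W : Type v} [AddCommGroup W] [Module R W] {N : ℕ} (u : Rˣ)
    (φ : W ≃ₗ[R] (Fin N → R)) (α β : R) (w : W) :
    VanCyc.quadEval (QuadTab.stdTab R (N + 2)) (consEquiv u φ ((α, β), w)) =
      ↑u⁻¹ * α * β + VanCyc.quadEval (QuadTab.stdTab R N) (φ w) := by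
  rw [consEquiv_apply, QuadTab.quadEval_stdTab_add_two]
  simp

/-- The orthogonal complement of a hyperbolic pair is again ordinary modulo `m`. -/
theorem ordMod_ker [IsLocalRing R] (q : QuadraticForm R V) (hq : OrdMod q) (e f : V) (he : q e = 0)
    (hf : q f = 0) (hef : QuadraticMap.polar q e f = 1) :
    OrdMod (q.comp (LinearMap.ker (hypCoord q e f)).subtype) := by
  intro w hw hpw
  have h1 : (w : V) ∈ (maximalIdeal R) • (⊤ : Submodule R V) := by
    refine hq w hw fun v => ?_
    obtain ⟨x, rfl⟩ := (hypEquiv q e f he hf hef).symm.surjective v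
    rw [hypEquiv_symm_apply]
    have hw' := w.2
    rw [LinearMap.mem_ker, hypCoord_apply, Prod.mk_eq_zero] at hw'
    rw [QuadraticMap.polar_comm]
    have h2 := hpw x.2
    rw [QuadraticMap.polar_comm] at h2
    have h3 : QuadraticMap.polar q (x.1.1 • e + x.1.2 • f + (x.2 : V)) (w : V) =
        QuadraticMap.polar (q.comp (LinearMap.ker (hypCoord q e f)).subtype) x.2 w := by
      rw [QuadraticMap.polar_add_left, QuadraticMap.polar_add_left, QuadraticMap.polar_smul_left,
        QuadraticMap.polar_smul_left, hw'.1, hw'.2]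
      simp [QuadraticMap.polar]
    rw [h3]
    exact h2
  let pr : V →ₗ[R] LinearMap.ker (hypCoord q e f) :=
    (LinearMap.snd R (R × R) _).comp (hypEquiv q e f he hf hef).toLinearMap
  have hpr : pr (w : V) = w := by
    have h2 : (hypEquiv q e f he hf hef).symm ((0, 0), w) = (w : V) := by
      rw [hypEquiv_symm_apply]; simp
    have h3 : hypEquiv q e f he hf hef (w : V) = ((0, 0), w) := by
      rw [← h2, LinearEquiv.apply_symm_apply]
    change (hypEquiv q e f he hf hef (w : V)).2 = w
    rw [h3]
  rw [← hpr]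
  have h4 : pr (w : V) ∈ ((maximalIdeal R) • (⊤ : Submodule R V)).map pr := ⟨_, h1, rfl⟩
  rw [Submodule.map_smul''] at h4
  exact Submodule.smul_mono le_rfl le_top h4

/-- Over a henselian local ring whose residue field has the roots of quadratic equations, a quadratic form
whose reduction is ordinary is a unit times the standard form, in suitable linear coordinates. -/
theorem exists_std [HenselianLocalRing R]
    (hroot : ∀ a b c : R, IsUnit a → ∃ s, a * s ^ 2 + b * s + c ∈ maximalIdeal R) :
    ∀ (N : ℕ) (V : Type v) [AddCommGroup V] [Module R V] [Module.Free R V] [Module.Finite R V]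
      (_ : Module.finrank R V = N) (q : QuadraticForm R V) (_ : OrdMod q),
      ∃ (φ : V ≃ₗ[R] (Fin N → R)) (u : Rˣ),
        ∀ v, q v = u * VanCyc.quadEval (QuadTab.stdTab R N) (φ v)
  | 0, V, _, _, _, _, hV, q, hq => by
    have b := Module.finBasisOfFinrankEq R V hV
    refine ⟨b.equivFun, 1, fun v => ?_⟩
    rw [QuadTab.quadEval_stdTab_zero]
    have hv : v = 0 := by
      have : b.equivFun v = 0 := Subsingleton.elim _ _
      exact b.equivFun.map_eq_zero_iff.mp this
    simp [hv]
  | 1, V, _, _, _, _, hV, q, hq => by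
    have b := Module.finBasisOfFinrankEq R V hV
    have hv : ∀ v : V, v = (b.equivFun v 0) • b 0 := fun v => by
      conv_lhs => rw [← b.sum_equivFun v]
      simp
    have hu : IsUnit (q (b 0)) := by
      by_contra hcon
      have h0 : b 0 ∈ (maximalIdeal R) • (⊤ : Submodule R V) := by
        refine hq _ ((mem_maximalIdeal _).mpr hcon) fun w => ?_
        rw [hv w, QuadraticMap.polar_smul_right, QuadraticMap.polar_self]
        have h1 : q (b 0) ∈ maximalIdeal R := (mem_maximalIdeal _).mpr hcon
        simp only [smul_eq_mul, nsmul_eq_mul]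
        exact Ideal.mul_mem_left _ _ (Ideal.mul_mem_left _ _ h1)
      have h1 := coord_mem_of_mem_smul_top (maximalIdeal R) (b.coord 0) h0
      have h2 : b.coord 0 (b 0) = 1 := by simp [Module.Basis.coord_apply]
      rw [h2] at h1
      exact (mem_maximalIdeal _).mp h1 isUnit_one
    obtain ⟨u, hu⟩ := hu
    refine ⟨b.equivFun, u, fun v => ?_⟩
    rw [QuadTab.quadEval_stdTab_one]
    conv_lhs => rw [hv v]
    rw [QuadraticMap.map_smul, ← hu, smul_eq_mul, mul_comm]
  | (N + 2), V, _, _, _, _, hV, q, hq => by
    have b := Module.finBasisOfFinrankEq R V hV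
    obtain ⟨e, f, he, hf, hef⟩ := exists_hyperbolic hroot b q hq
    have hfin : Module.Finite R (LinearMap.ker (hypCoord q e f)) :=
      Module.Finite.of_surjective ((LinearMap.snd R (R × R) _).comp (hypEquiv q e f he hf hef).toLinearMap)
        (Prod.snd_surjective.comp (hypEquiv q e f he hf hef).surjective)
    have hproj : Module.Projective R (LinearMap.ker (hypCoord q e f)) := by
      refine Module.Projective.of_split (M := V)
        ((hypEquiv q e f he hf hef).symm.toLinearMap.comp (LinearMap.inr R (R × R) _))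
        ((LinearMap.snd R (R × R) _).comp (hypEquiv q e f he hf hef).toLinearMap) ?_
      ext x
      simp
    have hfree : Module.Free R (LinearMap.ker (hypCoord q e f)) :=
      Module.free_of_flat_of_isLocalRing
    have hrank : Module.finrank R (LinearMap.ker (hypCoord q e f)) = N := by
      have h1 := (hypEquiv q e f he hf hef).finrank_eq
      rw [hV, Module.finrank_prod, Module.finrank_prod, Module.finrank_self] at h1
      omega
    obtain ⟨φ, u, hφ⟩ := exists_std hroot N (LinearMap.ker (hypCoord q e f)) hrank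
      (q.comp (LinearMap.ker (hypCoord q e f)).subtype) (ordMod_ker q hq e f he hf hef)
    refine ⟨(hypEquiv q e f he hf hef).trans (consEquiv u φ), u, fun v => ?_⟩
    obtain ⟨⟨⟨α, β⟩, w⟩, rfl⟩ := (hypEquiv q e f he hf hef).symm.surjective v
    rw [LinearEquiv.trans_apply, LinearEquiv.apply_symm_apply, quadEval_consEquiv,
      hypEquiv_symm_apply, apply_hyp q e f he hf hef α β w w.2]
    have h1 := hφ w
    rw [QuadraticMap.comp_apply, Submodule.subtype_apply] at h1
    rw [h1]
    have h2 : (u : R) * ↑u⁻¹ = 1 := u.mul_inv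
    linear_combination (-α * β) * h2

end Groth.Agent.Vancyc.H689.QuadSplit
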