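import Groth.Agent.Vancyc.H689.TruncPS
import Groth.Agent.Vancyc.H689.QuadSplit
import Mathlib.LinearAlgebra.QuadraticForm.Basic
import Mathlib.FieldTheory.IsAlgClosed.Basic
import Mathlib.RingTheory.Nakayama
import Mathlib.RingTheory.Henselian

/-!
# Coordinates in which the quadratic relation is the standard one
-/

set_option autoImplicit false
universe u v

namespace Groth.Agent.Vancyc.H689.Coord

open IsLocalRing PSPow TruncPS

section Table

variable {R : Type u} [CommRing R] {N : ℕ}

/-- The quadratic form of a table. -/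
def tabForm (h : Fin N → Fin N → R) : QuadraticForm R (Fin N → R) :=
  ∑ i : Fin N, ∑ j : Fin N, if i ≤ j then
    h i j • QuadraticMap.linMulLin (LinearMap.proj i) (LinearMap.proj j) else 0

theorem tabForm_apply (h : Fin N → Fin N → R) (v : Fin N → R) :
    tabForm h v = VanCyc.quadEval h v := by
  unfold tabForm VanCyc.quadEval
  rw [sum_apply]
  refine Finset.sum_congr rfl fun i _ => ?_
  rw [sum_apply]
  refine Finset.sum_congr rfl fun j _ => ?_
  split_ifs
  · simp [QuadraticMap.linMulLin_apply, mul_assoc]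
  · simp

theorem quadEval_sub_table (h d : Fin N → Fin N → R) (v : Fin N → R) :
    VanCyc.quadEval (fun i j => h i j - d i j) v = VanCyc.quadEval h v - VanCyc.quadEval d v := by
  unfold VanCyc.quadEval
  rw [← Finset.sum_sub_distrib]
  refine Finset.sum_congr rfl fun i _ => ?_
  rw [← Finset.sum_sub_distrib]
  refine Finset.sum_congr rfl fun j _ => ?_
  split_ifs
  · ring
  · simp

/-- An element of `J (x)²` is the value at `x` of a quadratic form with coefficients in `J`. -/
theorem exists_table (J : Ideal R) (x : Fin N → R) {z : R}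
    (hz : z ∈ J * (Ideal.span (Set.range x)) ^ 2) :
    ∃ d : Fin N → Fin N → R, (∀ i j, d i j ∈ J) ∧ z = VanCyc.quadEval d x := by
  have h1 : (Ideal.span (Set.range x)) ^ 2 =
      Submodule.span R (Set.range fun p : Fin N × Fin N => x p.1 * x p.2) := by
    rw [sq, Ideal.span_mul_span']
    congr 1
    ext w
    constructor
    · rintro ⟨_, ⟨i, rfl⟩, _, ⟨j, rfl⟩, rfl⟩
      exact ⟨(i, j), rfl⟩
    · rintro ⟨⟨i, j⟩, rfl⟩
      exact ⟨_, ⟨i, rfl⟩, _, ⟨j, rfl⟩, rfl⟩
  rw [h1, ← smul_eq_mul, Submodule.mem_ideal_smul_span_iff_exists_sum] at hz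
  obtain ⟨c, hc, rfl⟩ := hz
  refine ⟨fun i j => c (i, j) + if i < j then c (j, i) else 0, fun i j => ?_, ?_⟩
  · refine J.add_mem (hc _) ?_
    split_ifs
    · exact hc _
    · exact zero_mem _
  · rw [Finsupp.sum_fintype _ _ (fun _ => by simp), Fintype.sum_prod_type]
    have h2 : (∑ i, ∑ j, if j < i then c (i, j) * (x i * x j) else 0) =
        ∑ i, ∑ j, if i < j then c (j, i) * (x j * x i) else 0 := Finset.sum_comm
    have h3 : (∑ i, ∑ j, c (i, j) • (x i * x j)) =
        (∑ i, ∑ j, if i ≤ j then c (i, j) * (x i * x j) else 0) +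
        ∑ i, ∑ j, if j < i then c (i, j) * (x i * x j) else 0 := by
      rw [← Finset.sum_add_distrib]
      refine Finset.sum_congr rfl fun i _ => ?_
      rw [← Finset.sum_add_distrib]
      refine Finset.sum_congr rfl fun j _ => ?_
      by_cases hij : i ≤ j
      · simp [hij, not_lt.mpr hij]
      · simp [hij, not_le.mp hij]
    rw [h3, h2, ← Finset.sum_add_distrib]
    unfold VanCyc.quadEval
    refine Finset.sum_congr rfl fun i _ => ?_
    rw [← Finset.sum_add_distrib]
    refine Finset.sum_congr rfl fun j _ => ?_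
    by_cases hij : i < j
    · simp only [if_pos hij.le, if_pos hij]; ring
    · by_cases hij' : i ≤ j
      · simp only [if_pos hij', if_neg hij]; ring
      · simp only [if_neg hij', if_neg hij, add_zero]

end Table

section Local

variable {k : Type u} [Field k] {S : Type u} [CommRing S] [IsLocalRing S] [Algebra k S] {N : ℕ}

theorem algebraMap_mem_iff (c : k) : algebraMap k S c ∈ maximalIdeal S ↔ c = 0 := by
  constructor
  · intro h
    by_contra hc
    exact (mem_maximalIdeal _).mp h ((IsUnit.mk0 c hc).map (algebraMap k S))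
  · rintro rfl
    simp

/-- Quadratic equations are solvable modulo the maximal ideal. -/
theorem exists_root [IsAlgClosed k] (hres : ∀ y : S, ∃ c : k, y - algebraMap k S c ∈ maximalIdeal S)
    (a b c : S) (ha : IsUnit a) : ∃ s, a * s ^ 2 + b * s + c ∈ maximalIdeal S := by
  obtain ⟨a0, ha0⟩ := hres a
  obtain ⟨b0, hb0⟩ := hres b
  obtain ⟨c0, hc0⟩ := hres c
  have ha0' : a0 ≠ 0 := by
    rintro rfl
    rw [map_zero, sub_zero] at ha0
    exact (mem_maximalIdeal _).mp ha0 ha
  obtain ⟨s, hs⟩ := IsAlgClosed.exists_root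
    (Polynomial.C a0 * Polynomial.X ^ 2 + Polynomial.C b0 * Polynomial.X + Polynomial.C c0)
    (by rw [Polynomial.degree_quadratic ha0']; norm_num)
  refine ⟨algebraMap k S s, ?_⟩
  have hs' : a0 * s ^ 2 + b0 * s + c0 = 0 := by simpa [Polynomial.IsRoot.def] using hs
  have e : a * algebraMap k S s ^ 2 + b * algebraMap k S s + c =
      (a - algebraMap k S a0) * algebraMap k S s ^ 2 + (b - algebraMap k S b0) * algebraMap k S s +
        (c - algebraMap k S c0) + algebraMap k S (a0 * s ^ 2 + b0 * s + c0) := by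
    simp only [map_add, map_mul, map_pow]
    ring
  rw [e, hs', map_zero, add_zero]
  exact Ideal.add_mem _ (Ideal.add_mem _ (Ideal.mul_mem_right _ _ ha0) (Ideal.mul_mem_right _ _ hb0)) hc0

omit [IsLocalRing S] in
/-- The values of congruent tables at congruent vectors are congruent. -/
theorem quadEval_congr (I : Ideal S) {h h' : Fin N → Fin N → S} {v v' : Fin N → S}
    (hh : ∀ i j, h i j - h' i j ∈ I) (hv : ∀ i, v i - v' i ∈ I) :
    VanCyc.quadEval h v - VanCyc.quadEval h' v' ∈ I := by
  rw [← Ideal.Quotient.mk_eq_mk_iff_sub_mem, QuadTab.map_quadEval, QuadTab.map_quadEval]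
  refine Finset.sum_congr rfl fun i _ => Finset.sum_congr rfl fun j _ => ?_
  rw [(Ideal.Quotient.mk_eq_mk_iff_sub_mem _ _).mpr (hh i j),
    (Ideal.Quotient.mk_eq_mk_iff_sub_mem _ _).mpr (hv i),
    (Ideal.Quotient.mk_eq_mk_iff_sub_mem _ _).mpr (hv j)]

omit [IsLocalRing S] in
theorem quadEval_algebraMap (a : Fin N → Fin N → k) (c : Fin N → k) :
    VanCyc.quadEval (fun i j => algebraMap k S (a i j)) (fun i => algebraMap k S (c i)) =
      algebraMap k S (VanCyc.quadEval a c) := by
  rw [QuadTab.map_quadEval]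
  rfl

/-- A table with ordinary reduction defines a form which is ordinary modulo `m`. -/
theorem ordMod_tabForm (hres : ∀ y : S, ∃ c : k, y - algebraMap k S c ∈ maximalIdeal S)
    {a : Fin N → Fin N → k} (ha : VanCyc.QuadOrd a) (h : Fin N → Fin N → S)
    (hh : ∀ i j, h i j - algebraMap k S (a i j) ∈ maximalIdeal S) :
    QuadSplit.OrdMod (tabForm h) := by
  rw [QuadTab.quadOrd_iff] at ha
  intro v hv hpol
  choose c hc using fun i => hres (v i)
  have h1 : c = 0 := by
    refine ha c ?_ fun w => ?_
    · rw [tabForm_apply] at hv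
      have h2 := quadEval_congr (maximalIdeal S) hh hc
      rw [quadEval_algebraMap] at h2
      have h3 := (maximalIdeal S).sub_mem hv h2
      rw [sub_sub_cancel] at h3
      exact (algebraMap_mem_iff _).mp h3
    · have h2 := hpol (fun i => algebraMap k S (w i))
      rw [QuadraticMap.polar, tabForm_apply, tabForm_apply, tabForm_apply] at h2
      have h3 := quadEval_congr (maximalIdeal S) (v := v + (fun i => algebraMap k S (w i)))
        (v' := fun i => algebraMap k S ((c + w) i)) hh (fun i => by
          have := hc i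
          simpa using this)
      have h4 := quadEval_congr (maximalIdeal S) hh hc
      have h5 := quadEval_congr (maximalIdeal S) (v := (fun i => algebraMap k S (w i)))
        (v' := fun i => algebraMap k S (w i)) hh (fun i => by simp)
      rw [quadEval_algebraMap] at h3 h4 h5
      have h6 : algebraMap k S (VanCyc.quadEval a (c + w) - VanCyc.quadEval a c - VanCyc.quadEval a w) ∈
          maximalIdeal S := by
        have h7 := (maximalIdeal S).sub_mem ((maximalIdeal S).sub_mem ((maximalIdeal S).sub_mem h2 h3)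
          (neg_mem h4)) (neg_mem h5)
        rw [map_sub, map_sub]
        convert h7 using 1
        ring
      have h8 := (algebraMap_mem_iff _).mp h6
      linear_combination h8
  have h2 : ∀ i, v i ∈ maximalIdeal S := fun i => by
    have := hc i
    rwa [h1, Pi.zero_apply, map_zero, sub_zero] at this
  have h3 : v = ∑ i, v i • (Pi.single i 1 : Fin N → S) := by
    ext j
    simp [Finset.sum_apply, Pi.single_apply]
  rw [h3]
  exact Submodule.sum_mem _ fun i _ => Submodule.smul_mem_smul (h2 i) trivial

/-- Elements of the variables ideal go to the maximal ideal. -/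
theorem mem_of_mem {j : ℕ} (τ : MvPowerSeries (Fin N) k →ₐ[k] S ⧸ (maximalIdeal S) ^ j)
    (hj : j ≠ 0) (hτ : M k N ^ j ≤ RingHom.ker τ) {g : MvPowerSeries (Fin N) k} (hg : g ∈ M k N)
    {s : S} (hs : Ideal.Quotient.mk _ s = τ g) : s ∈ maximalIdeal S := by
  have h1 : τ (g ^ j) = 0 := hτ (Ideal.pow_mem_pow hg j)
  rw [map_pow, ← hs, ← map_pow, Ideal.Quotient.eq_zero_iff_mem] at h1
  exact Ideal.IsPrime.mem_of_pow_mem inferInstance j (Ideal.pow_le_self hj h1)

/-- Conversely, preimages of elements of the maximal ideal lie in the ideal of the variables. -/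
theorem mem_of_mem' {j : ℕ} (τ : MvPowerSeries (Fin N) k →ₐ[k] S ⧸ (maximalIdeal S) ^ j)
    (hτ : RingHom.ker τ ≤ M k N) {g : MvPowerSeries (Fin N) k}
    {s : S} (hs : Ideal.Quotient.mk _ s = τ g) (hs' : s ∈ maximalIdeal S) : g ∈ M k N := by
  have h1 : g ^ j ∈ RingHom.ker τ := by
    rw [RingHom.mem_ker, map_pow, ← hs, ← map_pow, Ideal.Quotient.eq_zero_iff_mem]
    exact Ideal.pow_mem_pow hs' j
  have : (M k N).IsPrime := by
    rw [← maximalIdeal_eq]; infer_instance
  exact Ideal.IsPrime.mem_of_pow_mem inferInstance j (hτ h1)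

/-- Images of generators are generators. -/
theorem span_eq_of_span_eq [IsNoetherianRing S] {j : ℕ}
    (τ : MvPowerSeries (Fin N) k →ₐ[k] S ⧸ (maximalIdeal S) ^ j)
    (hj : 2 ≤ j) (hsurj : Function.Surjective τ) (hτ : M k N ^ j ≤ RingHom.ker τ)
    (hτ' : RingHom.ker τ ≤ M k N)
    (η : Fin N → MvPowerSeries (Fin N) k) (hη : Ideal.span (Set.range η) = M k N)
    (y : Fin N → S) (hy : ∀ i, Ideal.Quotient.mk _ (y i) = τ (η i)) :
    Ideal.span (Set.range y) = maximalIdeal S := by
  have hym : ∀ i, y i ∈ maximalIdeal S := fun i =>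
    mem_of_mem τ (by omega) hτ (by rw [← hη]; exact Ideal.subset_span ⟨i, rfl⟩) (hy i)
  have hle : Ideal.span (Set.range y) ≤ maximalIdeal S := by
    rw [Ideal.span_le]
    rintro _ ⟨i, rfl⟩
    exact hym i
  refine le_antisymm hle ?_
  refine Submodule.le_of_le_smul_of_le_jacobson_bot (I := maximalIdeal S)
    ((isNoetherianRing_iff_ideal_fg S).mp inferInstance _)
    (IsLocalRing.maximalIdeal_le_jacobson _) ?_
  intro z hz
  obtain ⟨g, hg⟩ := hsurj (Ideal.Quotient.mk _ z)
  have hgM := mem_of_mem' τ hτ' hg.symm hz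
  rw [← hη, Ideal.mem_span_range_iff_exists_fun] at hgM
  obtain ⟨c, hc⟩ := hgM
  choose s hs using fun i => Ideal.Quotient.mk_surjective (τ (c i))
  have h1 : z - ∑ i, s i * y i ∈ maximalIdeal S ^ j := by
    rw [← Ideal.Quotient.mk_eq_mk_iff_sub_mem, ← hg, ← hc, map_sum, map_sum]
    refine Finset.sum_congr rfl fun i _ => ?_
    rw [map_mul, map_mul, hs, hy]
  have h2 : ∑ i, s i * y i ∈ Ideal.span (Set.range y) :=
    Ideal.sum_mem _ fun i _ => Ideal.mul_mem_left _ _ (Ideal.subset_span ⟨i, rfl⟩)
  have h3 : z = (∑ i, s i * y i) + (z - ∑ i, s i * y i) := by ring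
  rw [h3]
  refine Submodule.add_mem_sup h2 ?_
  rw [smul_eq_mul, ← sq]
  exact Ideal.pow_le_pow_right hj h1

/-- Coordinates generating the maximal ideal on which the standard form vanishes. -/
theorem exists_coords [IsAlgClosed k] [IsNoetherianRing S] (hens : HenselianLocalRing S)
    (hres : ∀ y : S, ∃ c : k, y - algebraMap k S c ∈ maximalIdeal S)
    (f : MvPowerSeries (Fin N) k) (hf : VanCyc.OrdQuadSeries f) (hT : HasTrunc f S 3) :
    ∃ y : Fin N → S, Ideal.span (Set.range y) = maximalIdeal S ∧
      VanCyc.quadEval (QuadTab.stdTab S N) y = 0 := by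
  obtain ⟨τ, hsurj, hker⟩ := hT
  have hτ : M k N ^ 3 ≤ RingHom.ker τ := by rw [hker]; exact le_sup_right
  have hfM := mem_sq_of_noLowTerms hf.1
  have hτ' : RingHom.ker τ ≤ M k N := by
    rw [hker]
    refine sup_le ?_ (Ideal.pow_le_self (by norm_num))
    rw [Ideal.span_le]
    rintro _ rfl
    exact Ideal.pow_le_self (by norm_num) hfM
  choose x hx using fun i => Ideal.Quotient.mk_surjective (τ (MvPowerSeries.X i))
  have hspan := span_eq_of_span_eq τ (by norm_num) hsurj hτ hτ' _ rfl x hx
  -- the quadratic part of `f` vanishes at `x` up to order three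
  have h1 : MvPolynomial.aeval x (VanCyc.quadPoly (VanCyc.quadPart f)) ∈ maximalIdeal S ^ 3 := by
    have h2 : ∀ p : MvPolynomial (Fin N) k, Ideal.Quotient.mk (maximalIdeal S ^ 3)
        (MvPolynomial.aeval x p) = τ (p : MvPowerSeries (Fin N) k) := by
      intro p
      have h3 : (Ideal.Quotient.mkₐ k (maximalIdeal S ^ 3)).comp (MvPolynomial.aeval x) =
          τ.comp (MvPolynomial.coeToMvPowerSeries.algHom k) := by
        ext i
        simp [hx]
      have h4 := DFunLike.congr_fun h3 p
      simpa using h4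
    rw [← Ideal.Quotient.eq_zero_iff_mem, h2]
    have h5 := sub_quadPart_mem hf.1
    have h6 : τ (f - ((VanCyc.quadPoly (VanCyc.quadPart f) : MvPolynomial (Fin N) k) :
        MvPowerSeries (Fin N) k)) = 0 := hτ h5
    have h7 : τ f = 0 := by
      have : f ∈ RingHom.ker τ := by
        rw [hker]
        exact Ideal.mem_sup_left (Ideal.mem_span_singleton_self f)
      exact this
    rw [map_sub, h7, zero_sub, neg_eq_zero] at h6
    exact h6
  rw [aeval_quadPoly] at h1
  obtain ⟨d, hd, hd'⟩ := exists_table (maximalIdeal S) x (z := VanCyc.quadEval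
    (fun i j => algebraMap k S (VanCyc.quadPart f i j)) x) (by
      rw [hspan, ← pow_succ']
      exact h1)
  let h : Fin N → Fin N → S := fun i j => algebraMap k S (VanCyc.quadPart f i j) - d i j
  have hx0 : VanCyc.quadEval h x = 0 := by
    rw [quadEval_sub_table, hd', sub_self]
  have hord : QuadSplit.OrdMod (tabForm h) := ordMod_tabForm hres hf.2 h fun i j => by
    have : h i j - algebraMap k S (VanCyc.quadPart f i j) = -(d i j) := by
      change algebraMap k S (VanCyc.quadPart f i j) - d i j - algebraMap k S (VanCyc.quadPart f i j) = _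
      ring
    rw [this]
    exact neg_mem (hd i j)
  obtain ⟨φ, u, hφ⟩ := QuadSplit.exists_std (exists_root hres) N (Fin N → S) (by simp) (tabForm h) hord
  refine ⟨φ x, ?_, ?_⟩
  · have key : ∀ (ψ : (Fin N → S) ≃ₗ[S] (Fin N → S)) (v : Fin N → S),
        Ideal.span (Set.range (ψ v)) ≤ Ideal.span (Set.range v) := by
      intro ψ v
      rw [Ideal.span_le]
      rintro _ ⟨i, rfl⟩
      have h3 : v = ∑ j, v j • (Pi.single j 1 : Fin N → S) := by
        ext j
        simp [Finset.sum_apply, Pi.single_apply]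
      have h4 : ψ v i = ∑ j, v j * ψ (Pi.single j 1) i := by
        conv_lhs => rw [h3]
        rw [map_sum, Finset.sum_apply]
        simp
      rw [h4]
      exact Ideal.sum_mem _ fun j _ => Ideal.mul_mem_right _ _ (Ideal.subset_span ⟨j, rfl⟩)
    rw [← hspan]
    refine le_antisymm (key φ x) ?_
    have := key φ.symm (φ x)
    rwa [LinearEquiv.symm_apply_apply] at this
  · have h2 := hφ x
    rw [tabForm_apply, hx0] at h2
    exact (u.isUnit.mul_right_eq_zero.mp h2.symm)

end Local

end Groth.Agent.Vancyc.H689.Coord
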