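import Groth.Agent.Vancyc.H689.Coord

/-!
# The relations between coordinates on which an ordinary quadratic form vanishes

If `S / m^j = k[[x]]/((f) + (x)^j)` with `f` of order two and `y` generates `m` with `Q(y) = 0`, `Q ≠ 0` quadratic,
then a polynomial `p` with `p(y) ∈ m^j` lies in `(Q) + (X)^j`.
-/

set_option autoImplicit false
universe u v

namespace Groth.Agent.Vancyc.H689.KerClaim

open IsLocalRing PSPow TruncPS

variable {k : Type u} [Field k] {S : Type u} [CommRing S] [IsLocalRing S] [Algebra k S] {N : ℕ}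

theorem mk_aeval {j : ℕ} (τ : MvPowerSeries (Fin N) k →ₐ[k] S ⧸ (maximalIdeal S) ^ j)
    (η : Fin N → MvPowerSeries (Fin N) k) (y : Fin N → S)
    (hy : ∀ i, Ideal.Quotient.mk _ (y i) = τ (η i)) (p : MvPolynomial (Fin N) k) :
    Ideal.Quotient.mk (maximalIdeal S ^ j) (MvPolynomial.aeval y p) = τ (MvPolynomial.aeval η p) := by
  have h3 : (Ideal.Quotient.mkₐ k (maximalIdeal S ^ j)).comp (MvPolynomial.aeval y) =
      τ.comp (MvPolynomial.aeval η) := by
    ext i
    simp [hy]
  have h4 := DFunLike.congr_fun h3 p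
  simpa using h4

theorem mem_of_aeval_mem {j : ℕ} (hj : 3 ≤ j) (hN : 0 < N)
    (f : MvPowerSeries (Fin N) k) (hf : VanCyc.NoLowTerms f) (hT : HasTrunc f S j)
    (y : Fin N → S) (hy : Ideal.span (Set.range y) = maximalIdeal S)
    {a : Fin N → Fin N → k} (ha : VanCyc.QuadOrd a)
    (hay : MvPolynomial.aeval y (VanCyc.quadPoly a) = 0)
    (p : MvPolynomial (Fin N) k) (hp : MvPolynomial.aeval y p ∈ maximalIdeal S ^ j) :
    p ∈ Ideal.span {VanCyc.quadPoly a} ⊔ MvPolynomial.idealOfVars (Fin N) k ^ j := by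
  obtain ⟨τ, hsurj, hker⟩ := hT
  have hτ : M k N ^ j ≤ RingHom.ker τ := by rw [hker]; exact le_sup_right
  have hfM := mem_sq_of_noLowTerms hf
  have hτ2 : RingHom.ker τ ≤ M k N ^ 2 := by
    rw [hker]
    refine sup_le ?_ (Ideal.pow_le_pow_right (by omega))
    rw [Ideal.span_le]
    rintro _ rfl
    exact hfM
  have hτ' : RingHom.ker τ ≤ M k N := hτ2.trans (Ideal.pow_le_self (by norm_num))
  choose η hη using fun i => hsurj (Ideal.Quotient.mk _ (y i))
  have hηM : ∀ i, η i ∈ M k N := fun i =>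
    Coord.mem_of_mem' τ hτ' (hη i).symm (by rw [← hy]; exact Ideal.subset_span ⟨i, rfl⟩)
  -- the lifts generate the ideal of the variables
  have hspan : Ideal.span (Set.range η) = M k N := by
    refine le_antisymm ?_ ?_
    · rw [Ideal.span_le]
      rintro _ ⟨i, rfl⟩
      exact hηM i
    refine Submodule.le_of_le_smul_of_le_jacobson_bot (I := M k N)
      ((isNoetherianRing_iff_ideal_fg _).mp inferInstance _)
      (by rw [← maximalIdeal_eq]; exact IsLocalRing.maximalIdeal_le_jacobson _) ?_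
    intro g hg
    obtain ⟨s, hs⟩ := Ideal.Quotient.mk_surjective (τ g)
    have hsm := Coord.mem_of_mem τ (by omega) hτ hg hs
    rw [← hy, Ideal.mem_span_range_iff_exists_fun] at hsm
    obtain ⟨c, hc⟩ := hsm
    choose γ hγ using fun i => hsurj (Ideal.Quotient.mk _ (c i))
    have h1 : g - ∑ i, γ i * η i ∈ M k N ^ 2 := by
      apply hτ2
      rw [RingHom.mem_ker, map_sub, map_sum, ← hs, ← hc, map_sum, sub_eq_zero]
      refine Finset.sum_congr rfl fun i _ => ?_
      rw [map_mul, map_mul, hγ, hη]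
    have h2 : ∑ i, γ i * η i ∈ Ideal.span (Set.range η) :=
      Ideal.sum_mem _ fun i _ => Ideal.mul_mem_left _ _ (Ideal.subset_span ⟨i, rfl⟩)
    have h3 : g = (∑ i, γ i * η i) + (g - ∑ i, γ i * η i) := by ring
    rw [h3]
    refine Submodule.add_mem_sup h2 ?_
    rw [smul_eq_mul, ← sq]
    exact h1
  obtain ⟨σ, hσ, hσM⟩ := exists_coordEquiv η hspan
  have key : ∀ q : MvPolynomial (Fin N) k, MvPolynomial.aeval y q ∈ maximalIdeal S ^ j →
      (q : MvPowerSeries (Fin N) k) ∈ Ideal.span {σ.symm f} ⊔ M k N ^ j := by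
    intro q hq
    rw [← Ideal.Quotient.eq_zero_iff_mem, mk_aeval τ η y (fun i => (hη i).symm), ← hσ] at hq
    have h1 : σ (q : MvPowerSeries (Fin N) k) ∈ RingHom.ker τ := hq
    rw [hker, Ideal.mem_span_singleton_sup] at h1
    obtain ⟨c, b, hb, hcb⟩ := h1
    rw [Ideal.mem_span_singleton_sup]
    refine ⟨σ.symm c, σ.symm b, ?_, ?_⟩
    · rw [← hσM, RingEquiv.apply_symm_apply]; exact hb
    · apply σ.injective
      rw [map_add, map_mul, RingEquiv.apply_symm_apply, RingEquiv.apply_symm_apply,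
        RingEquiv.apply_symm_apply, hcb]
  have hf' : σ.symm f ∈ M k N ^ 2 := by
    rw [← hσM, RingEquiv.apply_symm_apply]; exact hfM
  -- `Q` and `σ⁻¹ f` generate the same ideal modulo `(X)^j`
  have hQ := key (VanCyc.quadPoly a) (by rw [hay]; exact zero_mem _)
  rw [Ideal.mem_span_singleton_sup] at hQ
  obtain ⟨h, r, hr, hhr⟩ := hQ
  have hu : IsUnit h := by
    by_contra hcon
    have h1 : h ∈ M k N := by
      rw [← maximalIdeal_eq]; exact (mem_maximalIdeal _).mpr hcon
    refine quadPoly_notMem hN ha ((coe_mem_pow_iff 3 _).mp ?_)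
    rw [← hhr]
    refine Ideal.add_mem _ ?_ (Ideal.pow_le_pow_right hj hr)
    have : M k N ^ 3 = M k N * M k N ^ 2 := by rw [← pow_succ']
    rw [this]
    exact Ideal.mul_mem_mul h1 hf'
  obtain ⟨h', hh'⟩ := hu.exists_left_inv
  have hf'' : σ.symm f = h' * (((VanCyc.quadPoly a : MvPolynomial (Fin N) k) :
      MvPowerSeries (Fin N) k) - r) := by
    rw [← hhr, add_sub_cancel_right, ← mul_assoc, hh', one_mul]
  have hp' := key p hp
  rw [Ideal.mem_span_singleton_sup] at hp'
  obtain ⟨w, r', hr', hwr⟩ := hp'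
  obtain ⟨w₀, hw₀⟩ := exists_poly j (w * h')
  rw [Ideal.mem_span_singleton_sup]
  refine ⟨w₀, p - w₀ * VanCyc.quadPoly a, ?_, by ring⟩
  rw [← coe_mem_pow_iff]
  have e : ((p - w₀ * VanCyc.quadPoly a : MvPolynomial (Fin N) k) : MvPowerSeries (Fin N) k) =
      (w * h' - (w₀ : MvPowerSeries (Fin N) k)) *
        ((VanCyc.quadPoly a : MvPolynomial (Fin N) k) : MvPowerSeries (Fin N) k)
        - w * h' * r + r' := by
    have e1 : ((p - w₀ * VanCyc.quadPoly a : MvPolynomial (Fin N) k) : MvPowerSeries (Fin N) k) =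
      (p : MvPowerSeries (Fin N) k) - (w₀ : MvPowerSeries (Fin N) k) *
        ((VanCyc.quadPoly a : MvPolynomial (Fin N) k) : MvPowerSeries (Fin N) k) := by
      rw [← MvPolynomial.coe_mul]
      exact map_sub (MvPolynomial.coeToMvPowerSeries.ringHom (σ := Fin N) (R := k)) p _
    rw [e1, ← hwr, hf'']
    ring
  rw [e]
  exact Ideal.add_mem _ (Ideal.sub_mem _ (Ideal.mul_mem_right _ _ hw₀) (Ideal.mul_mem_left _ _ hr)) hr'

end Groth.Agent.Vancyc.H689.KerClaim
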