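import Groth.Agent.S0516
import Mathlib.RingTheory.Unramified.Locus
import Mathlib.RingTheory.Unramified.LocalRing
import Mathlib.RingTheory.EssentialFiniteness
import Mathlib.RingTheory.Kaehler.Basic
import Mathlib.RingTheory.Nakayama

/-!
# Unramified algebras over strictly henselian local rings and surjectivity

* `mem_range_of_unramified`: for `C` strictly henselian and `T` an unramified `C`-algebra, every `C`-algebra map
  `T → S` to a local `C`-algebra has image in the image of `C`.
* `formallyUnramified_of_span_eq`: an essentially finite type local `k`-algebra with residue field `k` whose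
  maximal ideal is generated by `y` is formally unramified over `k[X]`, `X ↦ y`.
* `mem_range_of_span_eq`: the image of such an algebra in a local `C`-algebra `S` lies in the image of `C`, if the
  images of the `y` come from the maximal ideal of `C`.
-/

set_option autoImplicit false
universe u v

namespace Groth.Agent.Vancyc.H689.UnramSurj

open IsLocalRing TensorProduct

theorem isIdempotentElem_eq {S : Type u} [CommRing S] [IsLocalRing S] {e : S}
    (he : IsIdempotentElem e) : e = 0 ∨ e = 1 := by
  have h1 : e * (1 - e) = 0 := by rw [mul_sub, mul_one, he.eq, sub_self]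
  rcases IsLocalRing.isUnit_or_isUnit_one_sub_self e with h | h
  · right
    have := h.mul_right_eq_zero.mp h1
    rw [sub_eq_zero] at this
    exact this.symm
  · left
    exact h.mul_left_eq_zero.mp h1

/-- A map from an unramified algebra over a strictly henselian local ring `C` to a local `C`-algebra
has image in the image of `C`. -/
theorem mem_range_of_unramified {C : Type u} [CommRing C] [HenselianLocalRing C]
    [IsSepClosed (ResidueField C)] {S : Type u} [CommRing S] [IsLocalRing S] [Algebra C S]
    [IsLocalHom (algebraMap C S)] {T : Type u} [CommRing T] [Algebra C T] [Algebra.Unramified C T]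
    (ψ : T →ₐ[C] S) (t : T) : ψ t ∈ (algebraMap C S).range := by
  classical
  obtain ⟨ι, _, A, _, _, B, _, _, hA, hB, ⟨e⟩⟩ := Groth.Agent.S0516.result C T
  let ψ' : ((∀ i, A i) × B) →ₐ[C] S := ψ.comp e.symm.toAlgHom
  have hψ' : ψ t = ψ' (e t) := by
    change ψ t = ψ (e.symm (e t))
    rw [AlgEquiv.symm_apply_apply]
  -- the idempotent of the factor with empty closed fibre goes to zero
  have hB0 : ψ' (0, 1) = 0 := by
    have hid : IsIdempotentElem (ψ' (0, 1)) := by
      unfold IsIdempotentElem
      rw [← map_mul]
      simp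
    rcases isIdempotentElem_eq hid with h | h
    · exact h
    · exfalso
      have h1 : ∀ b : B, b ∈ Ideal.map (algebraMap C B) (maximalIdeal C) →
          ψ' (0, b) ∈ maximalIdeal S := by
        intro b hb
        refine Submodule.span_induction ?_ ?_ ?_ ?_ hb
        · rintro _ ⟨c, hc, rfl⟩
          have h2 : ((0 : ∀ i, A i), algebraMap C B c) = algebraMap C ((∀ i, A i) × B) c * (0, 1) := by
            ext <;> simp
          rw [h2, map_mul, h, mul_one, AlgHom.commutes]
          exact ((IsLocalRing.local_hom_TFAE (algebraMap C S)).out 0 2 rfl rfl).mp inferInstance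
            (Ideal.mem_map_of_mem _ hc)
        · have : ((0 : ∀ i, A i), (0 : B)) = 0 := rfl
          rw [this, map_zero]
          exact zero_mem _
        · intro x y _ _ hx hy
          have h2 : ((0 : ∀ i, A i), x + y) = (0, x) + (0, y) := by simp
          rw [h2, map_add]
          exact Ideal.add_mem _ hx hy
        · intro r x _ hx
          have h2 : ((0 : ∀ i, A i), r • x) = (0, r) * (0, x) := by simp
          rw [h2, map_mul]
          exact Ideal.mul_mem_left _ _ hx
      have h2 := h1 1 (by rw [hB]; trivial)
      rw [h] at h2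
      exact (mem_maximalIdeal _).mp h2 isUnit_one
  -- some other idempotent goes to one
  have hsum : ∑ i, ψ' (Pi.single i 1, 0) = 1 := by
    rw [← map_sum]
    have h1 : (∑ i, ((Pi.single i 1 : ∀ i, A i), (0 : B))) = 1 - (0, 1) := by
      refine Prod.ext ?_ ?_
      · rw [Prod.fst_sum, Prod.fst_sub]
        simpa using Finset.univ_sum_single (1 : ∀ i, A i)
      · rw [Prod.snd_sum, Prod.snd_sub]
        simp
    rw [h1, map_sub, hB0, map_one, sub_zero]
  obtain ⟨i, hi⟩ : ∃ i, ψ' (Pi.single i 1, 0) = 1 := by
    by_contra hcon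
    push Not at hcon
    have h0 : ∀ i, ψ' (Pi.single i 1, 0) = 0 := fun i => by
      have hid : IsIdempotentElem (ψ' (Pi.single i 1, 0)) := by
        unfold IsIdempotentElem
        rw [← map_mul]
        congr 1
        refine Prod.ext ?_ (by simp)
        change (Pi.single i 1 : ∀ i, A i) * Pi.single i 1 = Pi.single i 1
        rw [← Pi.single_mul, one_mul]
      exact (isIdempotentElem_eq hid).resolve_right (hcon i)
    rw [Finset.sum_eq_zero (fun i _ => h0 i)] at hsum
    exact zero_ne_one hsum
  obtain ⟨c, hc⟩ := hA i ((e t).1 i)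
  refine ⟨c, ?_⟩
  have h1 : e t * (Pi.single i 1, 0) = algebraMap C ((∀ i, A i) × B) c * (Pi.single i 1, 0) := by
    refine Prod.ext ?_ (by simp)
    change (e t).1 * Pi.single i 1 = (fun j => algebraMap C (A j) c) * Pi.single i 1
    ext j
    rw [Pi.mul_apply, Pi.mul_apply]
    by_cases hj : j = i
    · subst hj
      rw [hc]
    · rw [Pi.single_eq_of_ne hj, mul_zero, mul_zero]
  have h2 := congrArg ψ' h1
  rw [map_mul, map_mul, hi, mul_one, mul_one, AlgHom.commutes] at h2
  rw [hψ', h2]

/-- An essentially finite type local `P`-algebra with residue field `k`, whose maximal ideal is generated by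
elements of `P`, is formally unramified over `P`. -/
theorem formallyUnramified_of_map_eq {k : Type u} [Field k] {P A : Type u} [CommRing P] [Algebra k P]
    [CommRing A] [IsLocalRing A] [Algebra k A] [Algebra P A] [IsScalarTower k P A]
    [Algebra.EssFiniteType P A]
    (hres : ∀ y : A, ∃ c : k, y - algebraMap k A c ∈ maximalIdeal A)
    (I : Ideal P) (hI : I.map (algebraMap P A) = maximalIdeal A) : Algebra.FormallyUnramified P A := by
  have h0 : ∀ z ∈ I.map (algebraMap P A), KaehlerDifferential.D P A z ∈
      (maximalIdeal A) • (⊤ : Submodule A (Ω[A⁄P])) := by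
    intro z hz
    refine Submodule.span_induction ?_ ?_ ?_ ?_ hz
    · rintro _ ⟨p, _, rfl⟩
      rw [Derivation.map_algebraMap]
      exact zero_mem _
    · rw [map_zero]; exact zero_mem _
    · intro x y _ _ hx hy
      rw [map_add]
      exact add_mem hx hy
    · intro a x hx hDx
      rw [smul_eq_mul, Derivation.leibniz]
      refine add_mem (Submodule.smul_mem _ _ hDx) (Submodule.smul_mem_smul ?_ trivial)
      rw [← hI]
      exact hx
  have h1 : (⊤ : Submodule A (Ω[A⁄P])) ≤ (maximalIdeal A) • ⊤ := by
    rw [← KaehlerDifferential.span_range_derivation, Submodule.span_le]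
    rintro _ ⟨a, rfl⟩
    obtain ⟨c, hc⟩ := hres a
    have h2 : KaehlerDifferential.D P A a = KaehlerDifferential.D P A (a - algebraMap k A c) := by
      rw [map_sub, IsScalarTower.algebraMap_apply k P A, Derivation.map_algebraMap, sub_zero]
    rw [KaehlerDifferential.span_range_derivation, h2]
    rw [← hI] at hc
    exact h0 _ hc
  have h2 : (⊤ : Submodule A (Ω[A⁄P])) = ⊥ :=
    Submodule.eq_bot_of_le_smul_of_le_jacobson_bot (maximalIdeal A) ⊤ Module.Finite.fg_top h1
      (IsLocalRing.maximalIdeal_le_jacobson _)
  refine ⟨?_⟩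
  exact (Submodule.subsingleton_iff A).mp (subsingleton_of_bot_eq_top h2.symm)

/-- The image in a local `C`-algebra `S` (`C` strictly henselian) of an essentially finite type local
`k`-algebra with residue field `k`, whose maximal ideal is generated by elements coming from `C`,
is contained in the image of `C`. -/
theorem mem_range_of_span_eq {k : Type u} [Field k] {C S A : Type u} [CommRing C] [HenselianLocalRing C]
    [IsSepClosed (ResidueField C)] [CommRing S] [IsLocalRing S] [Algebra C S]
    [IsLocalHom (algebraMap C S)] [Algebra k C] [Algebra k S] [IsScalarTower k C S] [CommRing A]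
    [IsLocalRing A] [Algebra k A] [Algebra.EssFiniteType k A]
    (hres : ∀ y : A, ∃ c : k, y - algebraMap k A c ∈ maximalIdeal A) {N : ℕ} (y : Fin N → A)
    (hy : Ideal.span (Set.range y) = maximalIdeal A) (φ : A →ₐ[k] S)
    (x : Fin N → C) (hx : ∀ i, algebraMap C S (x i) = φ (y i)) (a : A) :
    φ a ∈ (algebraMap C S).range := by
  let P := MvPolynomial (Fin N) k
  let _ : Algebra P A := (MvPolynomial.aeval y : P →ₐ[k] A).toRingHom.toAlgebra
  let _ : Algebra P C := (MvPolynomial.aeval x : P →ₐ[k] C).toRingHom.toAlgebra
  let _ : Algebra P S := ((algebraMap C S).comp (algebraMap P C)).toAlgebra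
  have _ : IsScalarTower P C S := IsScalarTower.of_algebraMap_eq fun _ => rfl
  have _ : IsScalarTower k P A := IsScalarTower.of_algebraMap_eq fun c =>
    ((MvPolynomial.aeval y : P →ₐ[k] A).commutes c).symm
  have _ : IsScalarTower k P C := IsScalarTower.of_algebraMap_eq fun c =>
    ((MvPolynomial.aeval x : P →ₐ[k] C).commutes c).symm
  have _ : Algebra.EssFiniteType P A := Algebra.EssFiniteType.of_comp k P A
  have hφP : ∀ p : P, φ (algebraMap P A p) = algebraMap P S p := by
    have h1 : φ.comp (MvPolynomial.aeval y : P →ₐ[k] A) =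
        (IsScalarTower.toAlgHom k C S).comp (MvPolynomial.aeval x : P →ₐ[k] C) := by
      ext i
      simp [hx]
    exact fun p => DFunLike.congr_fun h1 p
  have hunram : Algebra.FormallyUnramified P A := by
    refine formallyUnramified_of_map_eq (k := k) hres (Ideal.span (Set.range MvPolynomial.X)) ?_
    rw [Ideal.map_span, ← Set.range_comp, ← hy]
    congr 1
    ext z
    constructor
    · rintro ⟨i, rfl⟩; exact ⟨i, (MvPolynomial.aeval_X y i).symm⟩
    · rintro ⟨i, rfl⟩; exact ⟨i, MvPolynomial.aeval_X y i⟩
  -- a finite type model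
  let A₀ := Algebra.EssFiniteType.subalgebra P A
  let M := Algebra.EssFiniteType.submonoid P A
  let q : Ideal A₀ := (maximalIdeal A).comap (algebraMap A₀ A)
  have hM : M ≤ q.primeCompl := by
    intro s hs hsq
    have h1 : IsUnit (algebraMap A₀ A s) := IsLocalization.map_units A (⟨s, hs⟩ : M)
    exact (mem_maximalIdeal _).mp hsq h1
  have hq : IsLocalization q.primeCompl A := IsLocalization.of_le M q.primeCompl hM fun r hr => by
    by_contra hcon
    exact hr ((mem_maximalIdeal _).mpr hcon)
  have hun : Algebra.IsUnramifiedAt P q :=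
    Algebra.FormallyUnramified.of_equiv
      ((IsLocalization.algEquiv q.primeCompl A (Localization.AtPrime q)).restrictScalars P)
  obtain ⟨f, hfq, hf⟩ := Algebra.exists_unramified_of_isUnramifiedAt (R := P) q
  have hfu : IsUnit (algebraMap A₀ A f) := by
    by_contra hcon
    exact hfq ((mem_maximalIdeal _).mpr hcon)
  let φ₀ : Localization.Away f →+* A := IsLocalization.Away.lift f hfu
  have hφ₀ : ∀ b : A₀, φ₀ (algebraMap A₀ _ b) = algebraMap A₀ A b := fun b =>
    IsLocalization.Away.lift_eq f hfu b
  let φ' : Localization.Away f →ₐ[P] S :=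
    { toRingHom := φ.toRingHom.comp φ₀
      commutes' := fun p => by
        change φ (φ₀ (algebraMap P (Localization.Away f) p)) = _
        rw [IsScalarTower.algebraMap_apply P A₀ (Localization.Away f), hφ₀,
          ← IsScalarTower.algebraMap_apply P A₀ A, hφP] }
  let ψ : C ⊗[P] Localization.Away f →ₐ[C] S :=
    Algebra.TensorProduct.lift (Algebra.ofId C S) φ' (fun _ _ => Commute.all _ _)
  have hA₀ : ∀ b : A₀, φ (algebraMap A₀ A b) ∈ (algebraMap C S).range := by
    intro b
    have h1 := mem_range_of_unramified ψ (1 ⊗ₜ algebraMap A₀ _ b)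
    rw [Algebra.TensorProduct.lift_tmul, map_one, one_mul] at h1
    change φ (φ₀ (algebraMap A₀ _ b)) ∈ _ at h1
    rwa [hφ₀] at h1
  obtain ⟨b, s, rfl⟩ := IsLocalization.exists_mk'_eq M a
  obtain ⟨cs, hcs⟩ := hA₀ s
  obtain ⟨cb, hcb⟩ := hA₀ b
  have hsu : IsUnit (algebraMap A₀ A s) := IsLocalization.map_units A s
  have hcsu : IsUnit cs := by
    have h1 : IsUnit (algebraMap C S cs) := by
      rw [hcs]
      exact hsu.map φ
    exact isUnit_of_map_unit (algebraMap C S) cs h1
  obtain ⟨c', hc'⟩ := hcsu.exists_right_inv
  refine ⟨cb * c', ?_⟩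
  have h1 : φ (IsLocalization.mk' A b s) * φ (algebraMap A₀ A s) = φ (algebraMap A₀ A b) := by
    rw [← map_mul, IsLocalization.mk'_spec]
  have h2 : φ (algebraMap A₀ A s) * algebraMap C S c' = 1 := by
    rw [← hcs, ← map_mul, hc', map_one]
  rw [map_mul, hcb, ← h1, mul_assoc, h2, mul_one]

end Groth.Agent.Vancyc.H689.UnramSurj
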