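import Groth.Agent.Vancyc.H689.Cone
import Groth.Agent.Vancyc.H689.KerClaim
import Groth.Agent.Vancyc.H689.UnramSurj
import Groth.Agent.Hensel.EtaleNbhd
import Groth.Agent.UnramA.IndEtaleOfUniversal
import Groth.Agent.S0509
import Mathlib.RingTheory.Filtration

/-!
# Isomorphism of henselizations
-/

set_option autoImplicit false
universe u v

namespace Groth.Agent.Vancyc.H689.Iso

open IsLocalRing PSPow

section Approx

variable {k : Type u} [Field k] {C : Type u} [CommRing C] [IsLocalRing C] [Algebra k C] {N : ℕ}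

/-- Polynomials in generators of the maximal ideal are dense. -/
theorem exists_approx (hres : ∀ y : C, ∃ c : k, y - algebraMap k C c ∈ maximalIdeal C)
    (x : Fin N → C) (hx : Ideal.span (Set.range x) = maximalIdeal C) (j : ℕ) (c : C) :
    ∃ p : MvPolynomial (Fin N) k, c - MvPolynomial.aeval x p ∈ maximalIdeal C ^ j := by
  induction j generalizing c with
  | zero => exact ⟨0, by rw [pow_zero, Ideal.one_eq_top]; trivial⟩
  | succ j ih =>
    obtain ⟨c0, hc0⟩ := hres c
    have h1 := hc0
    rw [← hx, Ideal.mem_span_range_iff_exists_fun] at h1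
    obtain ⟨b, hb⟩ := h1
    choose p hp using fun i => ih (b i)
    refine ⟨MvPolynomial.C c0 + ∑ i, p i * MvPolynomial.X i, ?_⟩
    have e : c - MvPolynomial.aeval x (MvPolynomial.C c0 + ∑ i, p i * MvPolynomial.X i) =
        ∑ i, (b i - MvPolynomial.aeval x (p i)) * x i := by
      rw [map_add, map_sum, MvPolynomial.aeval_C]
      simp only [map_mul, MvPolynomial.aeval_X, sub_mul, Finset.sum_sub_distrib]
      rw [hb]
      ring
    rw [e]
    refine Ideal.sum_mem _ fun i _ => ?_
    rw [pow_succ]
    refine Ideal.mul_mem_mul (hp i) ?_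
    rw [← hx]
    exact Ideal.subset_span ⟨i, rfl⟩

/-- Injectivity from the description of the truncated relations. -/
theorem injective_of_relations [IsNoetherianRing C] {S : Type u} [CommRing S] [IsLocalRing S] [Algebra k S]
    (hres : ∀ y : C, ∃ c : k, y - algebraMap k C c ∈ maximalIdeal C)
    (x : Fin N → C) (hx : Ideal.span (Set.range x) = maximalIdeal C)
    (Q : MvPolynomial (Fin N) k) (hQ : MvPolynomial.aeval x Q = 0) (g : C →ₐ[k] S)
    (hg : (maximalIdeal C).map g.toRingHom ≤ maximalIdeal S)
    (hrel : ∀ j : ℕ, 3 ≤ j → ∀ p : MvPolynomial (Fin N) k,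
      MvPolynomial.aeval (fun i => g (x i)) p ∈ maximalIdeal S ^ j →
      p ∈ Ideal.span {Q} ⊔ MvPolynomial.idealOfVars (Fin N) k ^ j) :
    Function.Injective g := by
  rw [injective_iff_map_eq_zero]
  intro c hc
  have hxm : ∀ i, x i ∈ maximalIdeal C := fun i => by
    rw [← hx]; exact Ideal.subset_span ⟨i, rfl⟩
  have h1 : ∀ j : ℕ, c ∈ maximalIdeal C ^ j := by
    intro j
    refine Ideal.pow_le_pow_right (Nat.le_add_right j 3) ?_
    obtain ⟨p, hp⟩ := exists_approx hres x hx (j + 3) c
    have h2 : MvPolynomial.aeval (fun i => g (x i)) p ∈ maximalIdeal S ^ (j + 3) := by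
      have h3 : g (c - MvPolynomial.aeval x p) ∈ maximalIdeal S ^ (j + 3) := by
        refine Ideal.pow_right_mono hg (j + 3) ?_
        rw [← Ideal.map_pow]
        exact Ideal.mem_map_of_mem g.toRingHom hp
      rw [map_sub, hc, zero_sub, neg_mem_iff] at h3
      have h4 : MvPolynomial.aeval (fun i => g (x i)) p = g (MvPolynomial.aeval x p) := by
        have h5 : MvPolynomial.aeval (fun i => g (x i)) = g.comp (MvPolynomial.aeval x) := by
          ext i
          simp
        rw [h5]
        rfl
      rw [h4]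
      exact h3
    have h3 := hrel (j + 3) (by omega) p h2
    have h4 : MvPolynomial.aeval x p ∈ maximalIdeal C ^ (j + 3) := by
      have h5 : Ideal.span {Q} ⊔ MvPolynomial.idealOfVars (Fin N) k ^ (j + 3) ≤
          (maximalIdeal C ^ (j + 3)).comap (MvPolynomial.aeval x : MvPolynomial (Fin N) k →ₐ[k] C).toRingHom := by
        refine sup_le ((Ideal.span_singleton_le_iff_mem _).mpr ?_) ?_
        · have h6 : MvPolynomial.aeval x Q ∈ maximalIdeal C ^ (j + 3) := by
            rw [hQ]
            exact zero_mem _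
          exact h6
        · rw [← Ideal.map_le_iff_le_comap, Ideal.map_pow]
          refine Ideal.pow_right_mono ?_ _
          rw [Ideal.map_span, Ideal.span_le]
          rintro _ ⟨_, ⟨i, rfl⟩, rfl⟩
          change MvPolynomial.aeval x (MvPolynomial.X i) ∈ maximalIdeal C
          rw [MvPolynomial.aeval_X]
          exact hxm i
      exact h5 h3
    have h5 := Ideal.add_mem _ hp h4
    rwa [sub_add_cancel] at h5
  have h2 : c ∈ ⨅ j : ℕ, maximalIdeal C ^ j := by
    rw [Ideal.mem_iInf]
    exact h1
  rwa [Ideal.iInf_pow_eq_bot_of_isLocalRing _ (IsLocalRing.maximalIdeal.isMaximal C).ne_top,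
    Ideal.mem_bot] at h2

end Approx

section Res

variable {k : Type u} [Field k] {O Oh : Type u} [CommRing O] [IsLocalRing O] [Algebra k O]
  [CommRing Oh] [IsLocalRing Oh] [Algebra O Oh] [IsLocalHom (algebraMap O Oh)]
  [Hensel.IsHenselization O Oh] [Algebra k Oh] [IsScalarTower k O Oh]

theorem hres_hens (hk : ∀ y : O, ∃ c : k, y - algebraMap k O c ∈ maximalIdeal O) (y : Oh) :
    ∃ c : k, y - algebraMap k Oh c ∈ maximalIdeal Oh := by
  obtain ⟨z, hz⟩ := (Groth.Agent.S0508.result O Oh).2 (residue Oh y)
  obtain ⟨b, rfl⟩ := residue_surjective z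
  obtain ⟨c, hc⟩ := hk b
  refine ⟨c, ?_⟩
  have h1 : y - algebraMap O Oh b ∈ maximalIdeal Oh := by
    rw [← residue_eq_zero_iff, map_sub, sub_eq_zero, ← hz]
    rfl
  have h2 : algebraMap O Oh (b - algebraMap k _ c) ∈ maximalIdeal Oh := by
    rw [← Groth.Agent.S0507.result O Oh]
    exact Ideal.mem_map_of_mem _ hc
  rw [map_sub, ← IsScalarTower.algebraMap_apply] at h2
  have h3 := (maximalIdeal Oh).add_mem h1 h2
  rwa [sub_add_sub_cancel] at h3

/-- Surjectivity onto a henselization of an essentially finite type local algebra. -/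
theorem surjective_of_span [Algebra.EssFiniteType k O]
    (hk : ∀ y : O, ∃ c : k, y - algebraMap k O c ∈ maximalIdeal O)
    {C : Type u} [CommRing C] [HenselianLocalRing C] [IsSepClosed (ResidueField C)] [Algebra k C]
    [Algebra C Oh] [IsLocalHom (algebraMap C Oh)] [IsScalarTower k C Oh] {N : ℕ} (x : Fin N → C)
    (hx : Ideal.span (Set.range fun i => algebraMap C Oh (x i)) = maximalIdeal Oh) :
    Function.Surjective (algebraMap C Oh) := by
  classical
  have hcov : Hensel.EtaleNbhd.IsEtaleCovered O Oh := by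
    intro s
    obtain ⟨B, h1, h2, φ, h3, h4⟩ := UnramA.IndEtaleOfUniversal.exists_etale_of_isHenselization
      (R := O) (S := Oh) s
    exact ⟨B, h1, h2, h3, φ, fun z hz => by
      obtain ⟨b, hb⟩ := h4 z hz
      exact ⟨b, hb⟩⟩
  intro z
  obtain ⟨A, _, _, _, φ, hess, _, _, _, hloc, hmax, hrange, hflat⟩ :=
    Hensel.EtaleNbhd.exists_local O hcov (insert z (Finset.univ.image fun i => algebraMap C Oh (x i)))
  have hff : Module.FaithfullyFlat O Oh := Groth.Agent.S0509.result O Oh
  have hφflat : φ.toRingHom.Flat := hflat inferInstance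
  obtain ⟨a, ha⟩ := hrange (by simp : z ∈ _)
  choose y hy using fun i => hrange (show algebraMap C Oh (x i) ∈ _ by simp)
  let _ : Algebra k A := ((algebraMap O A).comp (algebraMap k O)).toAlgebra
  have _ : IsScalarTower k O A := IsScalarTower.of_algebraMap_eq fun _ => rfl
  have _ : Algebra.EssFiniteType k A := Algebra.EssFiniteType.comp k O A
  let φk : A →ₐ[k] Oh := φ.restrictScalars k
  have hresA : ∀ b : A, ∃ c : k, b - algebraMap k A c ∈ maximalIdeal A := by
    intro b
    obtain ⟨c, hc⟩ := hres_hens (k := k) (O := O) (Oh := Oh) hk (φ b)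
    refine ⟨c, ?_⟩
    rw [mem_maximalIdeal, mem_nonunits_iff] at hc ⊢
    intro hu
    apply hc
    have h1 := hu.map φk
    rw [map_sub, AlgHom.commutes] at h1
    exact h1
  have hspan : Ideal.span (Set.range y) = maximalIdeal A := by
    let _ : Algebra A Oh := φ.toRingHom.toAlgebra
    have _ : Module.Flat A Oh := hφflat
    have _ : IsLocalHom (algebraMap A Oh) := hloc
    have _ : Module.FaithfullyFlat A Oh := Module.FaithfullyFlat.of_flat_of_isLocalHom
    have h1 : (maximalIdeal A).map (algebraMap A Oh) = maximalIdeal Oh := by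
      rw [← hmax, Ideal.map_map]
      have : (algebraMap A Oh).comp (algebraMap O A) = algebraMap O Oh := by
        ext b
        exact φ.commutes b
      rw [this, Groth.Agent.S0507.result O Oh]
    have h2 : (Ideal.span (Set.range y)).map (algebraMap A Oh) = maximalIdeal Oh := by
      rw [Ideal.map_span, ← Set.range_comp, ← hx]
      congr 1
      ext w
      constructor
      · rintro ⟨i, rfl⟩; exact ⟨i, (hy i).symm⟩
      · rintro ⟨i, rfl⟩; exact ⟨i, hy i⟩
    rw [← Ideal.comap_map_eq_self_of_faithfullyFlat (B := Oh) (Ideal.span (Set.range y)), h2, ← h1,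
      Ideal.comap_map_eq_self_of_faithfullyFlat]
  obtain ⟨c, hc⟩ := UnramSurj.mem_range_of_span_eq (C := C) hresA y hspan φk x
    (fun i => (hy i).symm) a
  exact ⟨c, hc.trans ha⟩

end Res

end Groth.Agent.Vancyc.H689.Iso
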