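import Groth.Agent.Vancyc.H689.PSPow
import Mathlib.RingTheory.AdicCompletion.Completeness
import Mathlib.RingTheory.AdicCompletion.Algebra
import Groth.Agent.S0507
import Groth.Agent.S0510

/-!
# Truncations of a local ring whose completion is `k[[x]]/(f)`
-/

set_option autoImplicit false
universe u v

namespace Groth.Agent.Vancyc.H689.TruncPS

open MvPowerSeries IsLocalRing PSPow

/-- `S / m^j` is the quotient of `k[[x]]` by `(f) + (x)^j`. -/
def HasTrunc {k : Type u} [Field k] {N : ℕ} (f : MvPowerSeries (Fin N) k) (S : Type u) [CommRing S]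
    [IsLocalRing S] [Algebra k S] (j : ℕ) : Prop :=
  ∃ τ : MvPowerSeries (Fin N) k →ₐ[k] S ⧸ (maximalIdeal S) ^ j, Function.Surjective τ ∧
    RingHom.ker τ = Ideal.span {f} ⊔ M k N ^ j

variable {k : Type u} [Field k] {N : ℕ}

theorem ker_evalₐ {R : Type u} [CommRing R] (I : Ideal R) (hI : I.FG) (j : ℕ) :
    RingHom.ker (AdicCompletion.evalₐ I j) = (I.map (algebraMap R (AdicCompletion I R))) ^ j := by
  rw [← Ideal.map_pow]
  ext x
  have h1 : x ∈ RingHom.ker (AdicCompletion.evalₐ I j) ↔ x ∈ (AdicCompletion.eval I R j).ker := by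
    rw [RingHom.mem_ker, LinearMap.mem_ker]
    have eq : I ^ j * ⊤ = I ^ j := by simp
    have hinj : Function.Injective (Ideal.Quotient.factor ((le_of_eq eq))) := by
      rw [RingHom.injective_iff_ker_eq_bot, Ideal.Quotient.factor_ker]
      exact Ideal.map_mk_eq_bot_of_le (le_of_eq eq.symm)
    rw [← AdicCompletion.factor_eval_eq_evalₐ (h := le_of_eq eq)]
    exact map_eq_zero_iff _ hinj
  rw [h1, ← AdicCompletion.pow_smul_top_eq_ker_eval hI, Ideal.smul_top_eq_map]
  rfl

theorem hasTrunc_of_completion {O : Type u} [CommRing O] [IsLocalRing O] [IsNoetherianRing O]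
    [Algebra k O] (f : MvPowerSeries (Fin N) k)
    (e : AdicCompletion (maximalIdeal O) O ≃ₐ[k] (MvPowerSeries (Fin N) k ⧸ Ideal.span {f}))
    (j : ℕ) : HasTrunc f O j := by
  let ρ : MvPowerSeries (Fin N) k →ₐ[k] AdicCompletion (maximalIdeal O) O :=
    e.symm.toAlgHom.comp (Ideal.Quotient.mkₐ k _)
  have hρ : Function.Surjective ρ := e.symm.surjective.comp (Ideal.Quotient.mkₐ_surjective k _)
  have hkρ : RingHom.ker ρ.toRingHom = Ideal.span {f} := by
    ext g
    rw [RingHom.mem_ker]
    change e.symm (Ideal.Quotient.mk _ g) = 0 ↔ _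
    rw [map_eq_zero_iff _ e.symm.injective, Ideal.Quotient.eq_zero_iff_mem]
  have hfg : (maximalIdeal O).FG := (isNoetherianRing_iff_ideal_fg O).mp inferInstance _
  let τ : MvPowerSeries (Fin N) k →ₐ[k] O ⧸ (maximalIdeal O) ^ j :=
    ((AdicCompletion.evalₐ (maximalIdeal O) j).restrictScalars k).comp ρ
  refine ⟨τ, ?_, ?_⟩
  · exact (AdicCompletion.surjective_evalₐ (maximalIdeal O) j).comp hρ
  · set J : Ideal (AdicCompletion (maximalIdeal O) O) := (maximalIdeal O).map (algebraMap _ _) with hJ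
    have hJmax : J.IsMaximal := by
      have h1 := ker_evalₐ (maximalIdeal O) hfg 1
      rw [pow_one (Ideal.map _ _)] at h1
      rw [hJ, ← h1]
      have hmax : (⊥ : Ideal (O ⧸ (maximalIdeal O) ^ 1)).IsMaximal := by
        rw [pow_one]
        have : IsField (O ⧸ maximalIdeal O) := Ideal.Quotient.maximal_ideal_iff_isField_quotient _ |>.mp inferInstance
        let _ := this.toField
        exact Ideal.bot_isMaximal
      exact Ideal.comap_isMaximal_of_surjective _ (AdicCompletion.surjective_evalₐ (maximalIdeal O) 1)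
        (K := ⊥)
    have hJρ : J.comap ρ.toRingHom = M k N := by
      rw [← maximalIdeal_eq]
      have : (J.comap ρ.toRingHom).IsMaximal := Ideal.comap_isMaximal_of_surjective _ hρ
      exact IsLocalRing.eq_maximalIdeal this
    have hMρ : (M k N).map ρ.toRingHom = J := by
      rw [← hJρ]
      exact Ideal.map_comap_of_surjective _ hρ J
    have h2 : RingHom.ker τ = (J ^ j).comap ρ.toRingHom := by
      rw [hJ, ← ker_evalₐ _ hfg]
      rfl
    rw [h2, ← hMρ, ← Ideal.map_pow, Ideal.comap_map_of_surjective' ρ.toRingHom hρ, hkρ, sup_comm]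

/-- The truncations are those of the henselization. -/
theorem hasTrunc_henselization {O : Type u} [CommRing O] [IsLocalRing O]
    [Algebra k O] (f : MvPowerSeries (Fin N) k) (Oh : Type u) [CommRing Oh] [IsLocalRing Oh]
    [Algebra O Oh] [IsLocalHom (algebraMap O Oh)] [Hensel.IsHenselization O Oh] [Algebra k Oh]
    [IsScalarTower k O Oh] (j : ℕ) (h : HasTrunc f O j) : HasTrunc f Oh j := by
  obtain ⟨τ, hτ, hkτ⟩ := h
  have hmap : ((maximalIdeal O) ^ j).map (algebraMap O Oh) = (maximalIdeal Oh) ^ j := by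
    rw [Ideal.map_pow, Groth.Agent.S0507.result O Oh]
  have hle : (maximalIdeal O) ^ j ≤ ((maximalIdeal Oh) ^ j).comap (IsScalarTower.toAlgHom k O Oh) := by
    rw [← hmap]
    exact Ideal.le_comap_map
  let θ : (O ⧸ (maximalIdeal O) ^ j) →ₐ[k] (Oh ⧸ (maximalIdeal Oh) ^ j) :=
    Ideal.quotientMapₐ _ (IsScalarTower.toAlgHom k O Oh) hle
  have hθ : Function.Bijective θ := by
    have h1 := Groth.Agent.S0510.result O Oh j
    constructor
    · rw [injective_iff_map_eq_zero]
      intro x hx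
      obtain ⟨x, rfl⟩ := Ideal.Quotient.mk_surjective x
      have hx' : Ideal.Quotient.mk ((maximalIdeal Oh) ^ j) (algebraMap O Oh x) = 0 := hx
      rw [Ideal.Quotient.eq_zero_iff_mem, ← hmap] at hx'
      apply h1.1
      rw [map_zero]
      change Ideal.Quotient.mk _ (algebraMap O Oh x) = 0
      rwa [Ideal.Quotient.eq_zero_iff_mem]
    · intro y
      obtain ⟨y, rfl⟩ := Ideal.Quotient.mk_surjective y
      obtain ⟨x, hx⟩ := h1.2 (Ideal.Quotient.mk _ y)
      obtain ⟨x, rfl⟩ := Ideal.Quotient.mk_surjective x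
      refine ⟨Ideal.Quotient.mk _ x, ?_⟩
      have hx' : Ideal.Quotient.mk (((maximalIdeal O) ^ j).map (algebraMap O Oh)) (algebraMap O Oh x) =
        Ideal.Quotient.mk _ y := hx
      rw [Ideal.Quotient.mk_eq_mk_iff_sub_mem, hmap] at hx'
      change Ideal.Quotient.mk _ (algebraMap O Oh x) = Ideal.Quotient.mk _ y
      rwa [Ideal.Quotient.mk_eq_mk_iff_sub_mem]
  refine ⟨θ.comp τ, hθ.2.comp hτ, ?_⟩
  rw [← hkτ]
  ext x
  rw [RingHom.mem_ker, RingHom.mem_ker, AlgHom.comp_apply]
  exact map_eq_zero_iff _ hθ.1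

end Groth.Agent.Vancyc.H689.TruncPS
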